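import Cfsg.Agent.Lib.CFun.MinParab.Baumann.Roots
import Cfsg.Agent.Lib.CFun.MinParab.GlueMain

/-!
# Opposite blocks in linear components

A criterion for opposite blocks, and the blocks of a linear component: two distinct roots of the component
generate it.
-/

set_option autoImplicit false
set_option linter.unusedSectionVars false
set_option linter.style.haveILetI false

open scoped MatrixGroups
open CfsgLib.Char.NatSL (fixS mem_fixS fixS_mono tr mem_tr smul_mem_tr)
open CfsgLib.Fusion (conjBy mem_conjBy conj_mem_conjBy conjBy_le_iff conjBy_eq_iff conjBy_conjBy conjBy_mono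
  card_conjBy conjBy_inv_conjBy conjBy_conjBy_inv)

namespace CfsgLib.CFun.MinParab.Baumann

open Rec Off

variable {H : Type*} [Group H] [Finite H] {V : Type*} [AddCommGroup V] [Finite V] [DistribMulAction H V]
  {p q : ℕ} [hp : Fact p.Prime] {T : Sylow p H} {N A L E : Subgroup H}

/-- Roots of a part in the same `p`-group as `A` commute with it. -/
theorem conj_rts {t : H} (ht : t ∈ (T : Subgroup H)) (hA : A ∈ rts V p q (T : Subgroup H)) :
    conjBy t A ∈ rts V p q (T : Subgroup H) :=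
  ⟨hA.1.conj t, conjBy_le_iff.2 fun a ha => mul_mem (mul_mem ht (hA.2 ha)) (inv_mem ht)⟩

theorem sylow_le_normalizer_rsup :
    (T : Subgroup H) ≤ Subgroup.normalizer ((rsup V p q (T : Subgroup H) : Subgroup H) : Set H) := by
  intro t ht
  refine conjBy_eq_iff.1 (Subgroup.eq_of_le_of_card_ge ?_ (card_conjBy _ _).ge)
  rw [CfsgLib.Fusion.conjBy, Subgroup.map_le_iff_le_comap]
  exact sSup_le fun A hA => Subgroup.map_le_iff_le_comap.1 (le_rsup (conj_rts ht hA))

/-- An element normalizing a root and centralizing the others lies in `N`. -/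
theorem mem_of_normalizes (hs : Sys V p q T N) (hA : A ∈ rts V p q (T : Subgroup H)) {x : H}
    (hxA : conjBy x A = A) (hcom : ∀ B ∈ rts V p q (T : Subgroup H), B ≠ A → ∀ b ∈ B, b * x = x * b) :
    x ∈ N := by
  set R := rsup V p q (T : Subgroup H)
  have hne : Subgroup.normalizer (R : Set H) ≠ ⊤ := fun h => hA.1.ne_bot hs.least (le_bot_iff.1
    ((le_rsup hA).trans (hs.ctx.core R (Subgroup.normalizer_eq_top_iff.1 h) (T.2.to_le rsup_le_sylow)).le))
  refine hs.ctx.uniq _ sylow_le_normalizer_rsup hne (conjBy_eq_iff.1 (Subgroup.eq_of_le_of_card_ge ?_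
    (card_conjBy _ _).ge))
  rw [CfsgLib.Fusion.conjBy, Subgroup.map_le_iff_le_comap]
  refine sSup_le fun B hB => Subgroup.map_le_iff_le_comap.1 ?_
  by_cases h : B = A
  · subst h
    exact hxA.le.trans (le_rsup hA)
  · rintro _ ⟨b, hb, rfl⟩
    refine le_rsup hB ?_
    show x * b * x⁻¹ ∈ B
    rwa [← hcom B hB h b hb, mul_inv_cancel_right]

/-- A criterion for opposite blocks. -/
theorem Opp.mk' (hs : Sys V p q T N) (hA : A ∈ rts V p q (T : Subgroup H)) (hle : A ≤ L) (hnot : ¬ L ≤ N)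
    (hcom : ∀ B ∈ rts V p q (T : Subgroup H), B ≠ A → Com B L)
    (hgen : ∀ x ∈ L, conjBy x A = A ∨ A ⊔ conjBy x A = L)
    (hsep : ∀ a ∈ A, ∀ v : V, a • v - v ∈ fixS V L → a • v = v)
    (hiso : ∃ (F : Type) (_ : Field F) (_ : Fintype F), Fintype.card F = q ∧ Nonempty (↥L ≃* SL(2, F))) :
    Opp V p q (T : Subgroup H) N A L where
  le := hle
  notM := hnot
  gen x hx hxN := (hgen x hx).resolve_left fun h =>
    hxN (mem_of_normalizes hs hA h fun B hB hBA b hb => hcom B hB hBA b hb x hx)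
  sep a ha ha1 v hv := hs.sep hA.1 ha ha1 (hsep a ha v hv)
  com := hcom
  iso := hiso

/-- A root and a conjugate of it in a block are equal or generate it. -/
theorem blk_dichotomy (hs : Sys V p q T N) (hA : Root V p q A) (hb : NatBlk V p N A L) {x : H} (hx : x ∈ L) :
    conjBy x A = A ∨ A ⊔ conjBy x A = L := by
  by_cases hxN : x ∈ N
  swap
  · exact Or.inr (hb.gen x hx hxN)
  refine Or.inl (hs.eq_of_W_le (hA.conj x) hA fun v hv => ?_)
  rw [Rec.fixS_conjBy] at hv
  by_contra hvW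
  obtain ⟨y, hy, hyN⟩ := hb.exists_notMem
  obtain ⟨a, ha, hm⟩ := hb.line hy hyN hvW
  refine hvW (hb.Z_le (hb.meet hx (L.mul_mem (hb.le ha) hy) (fun h => hyN ?_) hv hm))
  have h1 := N.mul_mem (N.inv_mem (hb.aM ha)) (N.mul_mem hxN h)
  simpa [mul_assoc] using h1

/-- Two roots of a linear part are equal or generate it. -/
theorem linear_dichotomy {r : ℕ} {E : Fin r → Subgroup H} (hc : Ctx V p T N) (hF : Frame V p q T r E)
    (hq : 2 < q) {i : Fin r} (hE : IsNat2 V q (E i)) (hA : Root V p q A) (hAi : A ≤ E i) {x : H} (hx : x ∈ E i) :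
    conjBy x A = A ∨ A ⊔ conjBy x A = E i := by
  have hs : Sys V p q T N := ⟨hc, hF.least⟩
  obtain ⟨g, K, m, -, -, hb⟩ := hA.exists_conj_blk hF.least hc
  obtain ⟨F, iF, iFf, hF', -, ⟨θ⟩⟩ := exists_coord hb
  rw [card_conjBy, hA.card] at hF'
  obtain ⟨F', iF', iFf', hF'', ρ, -⟩ := hE
  obtain ⟨y, hy, hyN⟩ := hb.exists_notMem
  have hgen := hb.gen y hy hyN
  set A' := conjBy g⁻¹ (conjBy y (conjBy g A))
  have hK : conjBy g⁻¹ K = A ⊔ A' := by rw [← hgen, conjBy_sup, conjBy_inv_conjBy]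
  have hA' : Root V p q A' := ((hA.conj g).conj y).conj _
  obtain ⟨j, hj⟩ := hF.covered A' hA'
  have hij : i = j := by
    by_contra hne
    have hcom : Com A A' := (hF.parts.com i j hne).mono hAi hj
    have hab : ∀ a ∈ A ⊔ A', ∀ b ∈ A ⊔ A', a * b = b * a := (hA.el.sup hA'.el hcom).comm
    have hKc : ∀ u v : ↥K, u * v = v * u := fun u v => Subtype.ext (by
      have h1 : g⁻¹ * (u : H) * g ∈ A ⊔ A' := hK.le ⟨u, u.2, by simp⟩
      have h2 : g⁻¹ * (v : H) * g ∈ A ⊔ A' := hK.le ⟨v, v.2, by simp⟩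
      have h3 := hab _ h1 _ h2
      calc (u : H) * v = g * ((g⁻¹ * u * g) * (g⁻¹ * v * g)) * g⁻¹ := by group
        _ = g * ((g⁻¹ * v * g) * (g⁻¹ * u * g)) * g⁻¹ := by rw [h3]
        _ = v * u := by group)
    let u : SL(2, F) := ⟨!![1, 1; 0, 1], by simp [Matrix.det_fin_two_of]⟩
    let v : SL(2, F) := ⟨!![1, 0; 1, 1], by simp [Matrix.det_fin_two_of]⟩
    have h1 : u * v = v * u := by
      have h2 := congrArg θ (hKc (θ.symm u) (θ.symm v))
      simpa using h2
    have h3 : ((u : Matrix (Fin 2) (Fin 2) F) * (v : Matrix (Fin 2) (Fin 2) F)) 0 0 =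
        ((v : Matrix (Fin 2) (Fin 2) F) * (u : Matrix (Fin 2) (Fin 2) F)) 0 0 :=
      congrArg (fun g : SL(2, F) => (g : Matrix (Fin 2) (Fin 2) F) 0 0) h1
    simp [u, v, Matrix.mul_apply, Fin.sum_univ_two] at h3
  subst hij
  have hle : conjBy g⁻¹ K ≤ E i := hK.le.trans (sup_le hAi hj)
  have heq : conjBy g⁻¹ K = E i := Subgroup.eq_of_le_of_card_ge hle (le_of_eq (by
    rw [card_conjBy, Nat.card_congr ρ.toEquiv, Nat.card_congr θ.toEquiv, CfsgLib.Classical.card_sl2,
      CfsgLib.Classical.card_sl2, hF', hF'']))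
  have hxK : g * x * g⁻¹ ∈ K := by
    rw [← heq] at hx
    obtain ⟨k, hk, rfl⟩ := hx
    simpa [mul_assoc] using hk
  have e : conjBy (g * x * g⁻¹) (conjBy g A) = conjBy g (conjBy x A) := by
    simp only [conjBy_conjBy, inv_mul_cancel_right]
  rcases blk_dichotomy hs (hA.conj g) hb hxK with h | h
  · left
    rw [e] at h
    rw [← conjBy_inv_conjBy g (conjBy x A), h, conjBy_inv_conjBy]
  · right
    rw [e, ← conjBy_sup] at h
    rw [← heq, ← h, conjBy_inv_conjBy]

end CfsgLib.CFun.MinParab.Baumann
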