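import Cfsg.Agent.Lib.CFun.MinParab.Baumann.SymPart

/-!
# The configuration of roots from the components
-/

set_option autoImplicit false
set_option linter.unusedSectionVars false
set_option linter.style.haveILetI false

open scoped MatrixGroups
open CfsgLib.Char.NatSL (fixS mem_fixS fixS_mono)
open CfsgLib.Fusion (conjBy mem_conjBy conj_mem_conjBy conjBy_le_iff conjBy_eq_iff conjBy_conjBy conjBy_mono
  card_conjBy)

namespace CfsgLib.CFun.MinParab.Baumann

open Rec Off

variable {H : Type*} [Group H] [Finite H] {V : Type*} [AddCommGroup V] [Finite V] [DistribMulAction H V]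
  {p q n : ℕ} [hp : Fact p.Prime] {T : Sylow p H} {N : Subgroup H} {r : ℕ} {E : Fin r → Subgroup H}

/-- The roots of a linear component in the Sylow subgroup coincide. -/
theorem linear_eq (hc : Ctx V p T N) (hF : Frame V p q T r E) (hqn : q = p ^ n) (hn : 1 ≤ n) {i : Fin r}
    (hE : IsNat2 V q (E i)) {A B : Subgroup H} (hA : A ∈ rts V p q (T : Subgroup H)) (hAi : A ≤ E i)
    (hB : B ∈ rts V p q (T : Subgroup H)) (hBi : B ≤ E i) : A = B := by
  have hs : Sys V p q T N := ⟨hc, hF.least⟩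
  obtain ⟨x, -, hle⟩ := exists_conj_le hE hqn hn hA.1 hAi
    (hA.1.el.sup hB.1.el (hs.com_in T.2 hA.1 hB.1 hA.2 hB.2)).pgroup (sup_le hAi hBi)
  have h1 : Nat.card ↥(A ⊔ B) ≤ q := by
    rw [← card_conjBy x (A ⊔ B), ← hA.1.card]
    exact Subgroup.card_le_of_le hle
  have h2 := Subgroup.eq_of_le_of_card_ge (le_sup_left : A ≤ A ⊔ B) (by rw [hA.1.card]; exact h1)
  exact (Subgroup.eq_of_le_of_card_ge (h2 ▸ le_sup_right : B ≤ A) (by rw [hA.1.card, hB.1.card])).symm

/-- The opposite block of a root of a linear component is the component. -/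
theorem linear_opp (hc : Ctx V p T N) (hF : Frame V p q T r E) (hqn : q = p ^ n) (hn : 1 ≤ n) (hq : 2 < q)
    {i : Fin r} (hE : IsNat2 V q (E i)) {A : Subgroup H} (hA : A ∈ rts V p q (T : Subgroup H)) (hAi : A ≤ E i) :
    Opp V p q (T : Subgroup H) N A (E i) := by
  have hs : Sys V p q T N := ⟨hc, hF.least⟩
  refine Opp.mk' hs hA hAi (fun h => hc.ne_top (top_le_iff.1 (hF.parts.gen ▸ sup_le (iSup_le fun j => ?_) hc.le_M)))
    (fun B hB hBA => ?_) (fun x hx => linear_dichotomy hc hF hq hE hA.1 hAi hx)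
    (fun a ha v hv => hF.nofix i a (hAi ha) (hA.1.el.pow a ha) v hv) ?_
  · obtain ⟨t, ht, he⟩ := hF.parts.trans i j
    rw [← he]
    exact conjBy_le_iff.2 fun y hy => mul_mem (mul_mem (hc.le_M ht) (h hy)) (inv_mem (hc.le_M ht))
  · obtain ⟨j, hj⟩ := hF.covered B hB.1
    by_cases hji : j = i
    · subst hji
      exact absurd (linear_eq hc hF hqn hn hE hB hj hA hAi) hBA
    · exact (hF.parts.com j i hji).mono hj le_rfl
  · obtain ⟨F, iF, iFf, hF', ρ, -⟩ := hE
    exact ⟨F, iF, iFf, hF', ⟨ρ⟩⟩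

/-- The configuration. -/
theorem Cfg.of_frame (hc : Ctx V p T N) (hF : Frame V p q T r E) (hn : 1 ≤ n)
    (hnat : ∀ i, Glue.PartNat V p q n (E i)) : Cfg V p q T N := by
  refine ⟨hc, hF.least, ?_, fun A hA => ?_, fun X hX hne => hF.exists_root_le hc hX hne, ?_, fun A hA B hB => ?_⟩
  · obtain ⟨A, hA⟩ := hF.exists_root
    obtain ⟨Q, hQ⟩ := hA.el.pgroup.exists_le_sylow
    obtain ⟨g, hg⟩ := MulAction.exists_smul_eq H Q T
    exact ⟨conjBy g A, hA.conj g, hg ▸ Subgroup.map_mono hQ⟩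
  · obtain ⟨i, hi⟩ := hF.covered A hA.1
    rcases hnat i with ⟨hq, hqn, hE⟩ | ⟨rfl, hp2, θ, ψ, hsum, hev, hker, heqv⟩
    · exact ⟨E i, linear_opp hc hF hqn hn hq hE hA hi⟩
    · exact sym_opp hp2 hn hc hF θ ψ hev hker heqv hA hi
  · -- offenders split over the components
    suffices key : ∀ (k : ℕ) (X : Subgroup H), Nat.card ↥X ≤ k → IsOff V p X → X ≤ (T : Subgroup H) →
        X ≤ rsup V p q (T : Subgroup H) from fun X hX hXT => key _ X le_rfl hX hXT
    intro k
    induction k with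
    | zero => exact fun X h => absurd h (not_le.2 Nat.card_pos)
    | succ k ih =>
      intro X hk hX hXT
      by_cases hne : X = ⊥
      · rw [hne]; exact bot_le
      obtain ⟨A, hAX, hA⟩ := hF.exists_root_le hc hX hne
      obtain ⟨i, hi⟩ := hF.covered A hA
      obtain ⟨P, X', hPX, hPi, hP, hX'X, hX', hsup, hfix, -⟩ := hF.split_step hc i hX
        ((hF.le_iSup hc _ X le_rfl hX).trans (hF.iSup_le_inner i))
      have hlt : Nat.card ↥X' ≤ k := by
        refine Nat.lt_succ_iff.1 ((lt_of_le_of_ne (Subgroup.card_le_of_le hX'X) fun he => ?_).trans_le hk)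
        have hXX' := Subgroup.eq_of_le_of_card_ge hX'X he.ge
        refine hA.ne_bot hF.least ((Subgroup.eq_bot_iff_forall A).2 fun a ha => hF.eq_one hc (hi ha) ?_)
        exact hfix a (hXX' ▸ hAX ha)
      refine hsup.trans (sup_le ?_ (ih X' hlt hX' (hX'X.trans hXT)))
      rcases hnat i with ⟨hq, hqn, hE⟩ | ⟨rfl, hp2, θ, ψ, hsum, hev, hker, heqv⟩
      · by_cases hPne : P = ⊥
        · rw [hPne]; exact bot_le
        obtain ⟨B, hBP, hB⟩ := hF.exists_root_le hc hP hPne
        obtain ⟨x, -, hle⟩ := exists_conj_le hE hqn hn hB (hBP.trans hPi) hP.1.pgroup hPi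
        have h1 : P = B := (Subgroup.eq_of_le_of_card_ge hBP (by
          rw [← card_conjBy x P]
          exact Subgroup.card_le_of_le hle)).symm
        exact h1 ▸ le_rsup ⟨hB, hBP.trans (hPX.trans hXT)⟩
      · exact sym_off hp2 hn hc hF θ ψ hev hker heqv _ P le_rfl hP hPi (hPX.trans hXT)
  · obtain ⟨i, hi⟩ := hF.covered A hA.1
    obtain ⟨j, hj⟩ := hF.covered B hB.1
    obtain ⟨t, ht, he⟩ := hF.parts.trans i j
    have hA' := conj_rts ht hA
    have hA'j : conjBy t A ≤ E j := he ▸ conjBy_mono hi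
    rcases hnat j with ⟨hq, hqn, hE⟩ | ⟨rfl, hp2, θ, ψ, hsum, hev, hker, heqv⟩
    · exact ⟨t, ht, linear_eq hc hF hqn hn hE hA' hA'j hB hj⟩
    · obtain ⟨s, hs, hse⟩ := sym_trans hp2 hn hc hF θ ψ hev heqv hA' hA'j hB hj
      exact ⟨s * t, mul_mem hs ht, by rw [← conjBy_conjBy, hse]⟩

end CfsgLib.CFun.MinParab.Baumann
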