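import Cfsg.Agent.Lib.CFun.MinParab.Baumann.Lemma

/-!
# The image of the Baumann subgroup

`B(T)` induces on `V` exactly the product of the roots, and for each root there is a maximal elementary abelian
subgroup of `T` inducing exactly that root.
-/

set_option autoImplicit false
set_option linter.unusedSectionVars false
set_option linter.style.haveILetI false

open CfsgLib.Char.NatSL (fixS mem_fixS fixS_mono)
open CfsgLib.Fusion (conjBy mem_conjBy conj_mem_conjBy conjBy_le_iff conjBy_eq_iff IsMaxEA)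
open scoped commutatorElement

namespace CfsgLib.CFun.MinParab.Baumann

open Rec Off Glue

theorem map_conjBy {G H : Type*} [Group G] [Group H] (f : G →* H) (g : G) (X : Subgroup G) :
    (conjBy g X).map f = conjBy (f g) (X.map f) := by
  ext y
  constructor
  · rintro ⟨_, ⟨x, hx, rfl⟩, rfl⟩
    exact ⟨f x, ⟨x, hx, rfl⟩, by simp⟩
  · rintro ⟨_, ⟨x, hx, rfl⟩, rfl⟩
    exact ⟨g * x * g⁻¹, ⟨x, hx, rfl⟩, by simp⟩

variable {G : Type*} [Group G] [Finite G] {H : Type*} [Group H] [Finite H] {U : Type*} [AddCommGroup U]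
  [Finite U] [DistribMulAction H U] {p q : ℕ} [hp : Fact p.Prime] {T : Sylow p G} {M : Subgroup G}

namespace Conf

variable {m : Mdl (vO p G) ⊤ H U} {S : Sylow p H} {N : Subgroup H}

/-- The fixed points of the roots lie in `W₀`. -/
theorem sub_fix_le_wJ (cf : Conf p q T M m S N) :
    m.sub (fixS U (rsup U p q (S : Subgroup H))) ≤ wJ p (T : Subgroup G) := by
  intro v hv
  obtain ⟨u, hu, rfl⟩ := m.mem_sub.1 hv
  have hJ : m.val u ∈ Subgroup.centralizer (Cfsg.thompsonSubgroupOf p (T : Subgroup G) : Set G) :=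
    (mem_fixS_map_iff m).1 (fixS_mono cf.thompson_map_le hu)
  have hpow : m.val u ^ p = 1 := Setting.omega_ea.2 _ (m.val_mem u)
  obtain ⟨A, hA⟩ := CfsgLib.Fusion.exists_isMaxEA p (T : Subgroup G)
  have hmem : m.val u ∈ A := le_of_commutes hA (Subgroup.zpowers_le.2 (vO_le_T (m.val_mem u)))
    (CfsgLib.EABasic.isElementaryAbelian_zpowers hpow)
    (Subgroup.zpowers_le.2 (Subgroup.centralizer_le (CfsgLib.Fusion.le_thompsonSubgroupOf hA) hJ))
    (Subgroup.mem_zpowers _)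
  exact Subgroup.subset_closure ⟨⟨CfsgLib.Fusion.le_thompsonSubgroupOf hA hmem, hJ⟩, hpow⟩

/-- Every root is in the image of the Thompson subgroup. -/
theorem rsup_le_map_thompson (cf : Conf p q T M m S N) :
    rsup U p q (S : Subgroup H) ≤ (Cfsg.thompsonSubgroupOf p (T : Subgroup G)).map (toH m) := by
  obtain ⟨A, hA, B, hB, hBA, -⟩ := cf.exists_max_root
  refine sSup_le fun B' hB' => ?_
  obtain ⟨s, hs, rfl⟩ := cf.cfg.trans B hB B' hB'
  rw [cf.sylow] at hs
  obtain ⟨t, ht, rfl⟩ := hs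
  have h1 : conjBy t (Cfsg.thompsonSubgroupOf p (T : Subgroup G)) = Cfsg.thompsonSubgroupOf p (T : Subgroup G) :=
    conjBy_eq_iff.2 (CfsgLib.Fusion.normalizer_le_normalizer_thompsonSubgroupOf (p := p) _
      (Subgroup.le_normalizer ht))
  rw [← h1, map_conjBy]
  exact CfsgLib.Fusion.conjBy_mono (hBA.trans (Subgroup.map_mono (CfsgLib.Fusion.le_thompsonSubgroupOf hA)))

/-- The Baumann subgroup induces the product of the roots. -/
theorem map_baumann (cf : Conf p q T M m S N) :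
    (Cfsg.baumannSubgroupOf p (T : Subgroup G)).map (toH m) = rsup U p q (S : Subgroup H) := by
  refine le_antisymm ?_ (cf.rsup_le_map_thompson.trans
    (Subgroup.map_mono (CfsgLib.BaumannNormal.thompson_le_baumann _)))
  rintro _ ⟨x, hx, rfl⟩
  refine cf.cfg.mem_of_fix (cf.sylow ▸ Subgroup.mem_map_of_mem _ hx.1) fun u hu => (toH_fix_iff m x u).2 ?_
  exact (Subgroup.mem_centralizer_iff.1 hx.2 _ (cf.sub_fix_le_wJ (m.val_mem_sub.2 hu))).symm

theorem vO_inf_wJ (cf : Conf p q T M m S N) :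
    vO p G ⊓ wJ p (T : Subgroup G) = m.sub (fixS U (rsup U p q (S : Subgroup H))) := by
  refine le_antisymm (fun v hv => ?_) (le_inf (fun v hv => ?_) cf.sub_fix_le_wJ)
  · obtain ⟨u, rfl⟩ := m.exists_val v hv.1
    refine m.val_mem_sub.2 ?_
    rw [← cf.map_baumann, mem_fixS_map_iff]
    exact Subgroup.le_centralizer_iff.1 baumann_le_centralizer_wJ hv.2
  · obtain ⟨u, -, rfl⟩ := m.mem_sub.1 hv
    exact m.val_mem u

/-- `|Y| = |R| |W₀|`. -/
theorem card_yB (cf : Conf p q T M m S N) :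
    Nat.card ↥(yB p (T : Subgroup G)) =
      Nat.card ↥(rsup U p q (S : Subgroup H)) * Nat.card ↥(wJ p (T : Subgroup G)) := by
  haveI := Setting.omega_normal (G := G) (p := p)
  have h1 := CfsgLib.EABasic.card_sup_mul_card_inf_of_le_normalizer (H := wJ p (T : Subgroup G)) (N := vO p G)
    (le_top.trans (Subgroup.normalizer_eq_top_iff.2 inferInstance).ge)
  rw [sup_comm, inf_comm, cf.vO_inf_wJ, card_sub, ← card_model m, ← cf.cfg.card_rsup_mul] at h1
  refine Nat.eq_of_mul_eq_mul_right (Nat.card_pos : 0 < Nat.card ↥(fixS U (rsup U p q (S : Subgroup H)))) ?_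
  rw [h1]; ring

theorem baumann_inf_centralizer (cf : Conf p q T M m S N) :
    Cfsg.baumannSubgroupOf p (T : Subgroup G) ⊓ Subgroup.centralizer (vO p G : Set G) =
      qB p (T : Subgroup G) := by
  refine le_antisymm (le_inf inf_le_left ?_) (inf_le_inf_left _ cf.vO_le_centralizer)
  rw [← cf.centralizer_inf]
  exact inf_le_inf_right _ baumann_le

theorem card_baumann (cf : Conf p q T M m S N) :
    Nat.card ↥(Cfsg.baumannSubgroupOf p (T : Subgroup G)) =
      Nat.card ↥(rsup U p q (S : Subgroup H)) * Nat.card ↥(qB p (T : Subgroup G)) := by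
  rw [← cf.baumann_inf_centralizer, ← cf.map_baumann, card_map_mul]

theorem qB_eq (cf : Conf p q T M m S N) :
    qB p (T : Subgroup G) = (T : Subgroup G) ⊓ Subgroup.centralizer (yB p (T : Subgroup G) : Set G) := by
  refine le_antisymm (le_inf (inf_le_left.trans baumann_le) (Subgroup.le_centralizer_iff.1 (sup_le ?_ ?_))) ?_
  · exact Subgroup.le_centralizer_iff.1 (inf_le_right.trans cf.vO_le_centralizer)
  · exact Subgroup.le_centralizer_iff.1 (inf_le_left.trans baumann_le_centralizer_wJ)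
  · rintro x ⟨hxT, hxC⟩
    refine ⟨⟨hxT, Subgroup.centralizer_le (SetLike.coe_subset_coe.2 (le_sup_right : wJ p (T : Subgroup G) ≤ yB p (T : Subgroup G))) hxC⟩, cf.centralizer_inf.le ?_⟩
    exact ⟨hxT, Subgroup.centralizer_le (SetLike.coe_subset_coe.2 (le_sup_left : vO p G ≤ yB p (T : Subgroup G))) hxC⟩

theorem qB_normal (cf : Conf p q T M m S N) : (qB p (T : Subgroup G)).Normal := by
  haveI := cf.yB_normal
  haveI := CfsgLib.Coprime.pCore_normal' (G := G) p
  have e : qB p (T : Subgroup G) =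
      Cfsg.pCore p G ⊓ Subgroup.centralizer (yB p (T : Subgroup G) : Set G) := by
    refine le_antisymm (le_inf inf_le_right (cf.qB_eq.le.trans inf_le_right)) ?_
    rw [cf.qB_eq]
    exact inf_le_inf_right _ (CfsgLib.PGroup.pCore_le_sylow T)
  rw [e]
  infer_instance

theorem yB_le_qB (cf : Conf p q T M m S N) : yB p (T : Subgroup G) ≤ qB p (T : Subgroup G) := by
  rw [cf.qB_eq]
  refine le_inf (sup_le vO_le_T wJ_le_T) fun x hx => Subgroup.mem_centralizer_iff.2 fun y hy => ?_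
  exact CfsgLib.EABasic.comm_of_isElementaryAbelian cf.yB_ea hy hx

theorem pgroup_le_qB (cf : Conf p q T M m S N) {P : Subgroup G} (hP : IsPGroup p P)
    (hPY : P ≤ Subgroup.centralizer (yB p (T : Subgroup G) : Set G)) : P ≤ qB p (T : Subgroup G) := by
  haveI := cf.yB_normal
  obtain ⟨Q, hQ⟩ := hP.exists_le_sylow
  obtain ⟨g, hg⟩ := MulAction.exists_smul_eq G Q T
  rw [← CfsgLib.Fusion.conjBy_inv_conjBy g P, ← conjBy_of_normal cf.qB_normal g⁻¹]
  refine CfsgLib.Fusion.conjBy_mono ?_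
  rw [cf.qB_eq]
  refine le_inf (hg ▸ Subgroup.map_mono hQ) ((CfsgLib.Fusion.conjBy_mono hPY).trans ?_)
  exact (conjBy_of_normal inferInstance g).le

theorem centralizer_qB_le (cf : Conf p q T M m S N) :
    Subgroup.centralizer (qB p (T : Subgroup G) : Set G) ≤ qB p (T : Subgroup G) := by
  haveI := cf.qB_normal
  set C₀ := Subgroup.centralizer (qB p (T : Subgroup G) : Set G)
  haveI hQn := CfsgLib.Coprime.pCore_normal' (G := G) p
  have hCY : C₀ ≤ Subgroup.centralizer (yB p (T : Subgroup G) : Set G) := Subgroup.centralizer_le cf.yB_le_qB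
  refine cf.pgroup_le_qB ?_ hCY
  rintro ⟨x, hx⟩
  obtain ⟨a, k, hk, hord⟩ := Nat.exists_eq_pow_mul_and_not_dvd (orderOf_pos x).ne' p hp.out.ne_one
  refine ⟨a, Subtype.ext ?_⟩
  show x ^ p ^ a = 1
  set y := x ^ p ^ a
  have hyk : y ^ k = 1 := by rw [← pow_mul, ← hord, pow_orderOf_eq_one]
  have hyC : y ∈ C₀ := pow_mem hx _
  have hyQ : y ∈ Cfsg.pCore p G := cf.setting.char (Subgroup.mem_centralizer_iff.2 fun u hu => by
    set z := y * u * y⁻¹ * u⁻¹ with hz
    have hzC : z ∈ C₀ := by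
      rw [hz, show y * u * y⁻¹ * u⁻¹ = y * (u * y⁻¹ * u⁻¹) by group]
      exact mul_mem hyC ((inferInstance : C₀.Normal).conj_mem _ (inv_mem hyC) u)
    have hzQ : z ∈ Cfsg.pCore p G := mul_mem (hQn.conj_mem u hu y) (inv_mem hu)
    have hzq : z ∈ qB p (T : Subgroup G) :=
      cf.pgroup_le_qB (P := C₀ ⊓ Cfsg.pCore p G) ((T.2.to_le (CfsgLib.PGroup.pCore_le_sylow T)).to_le inf_le_right)
        (inf_le_left.trans hCY) ⟨hzC, hzQ⟩
    have hyz : z * y = y * z := Subgroup.mem_centralizer_iff.1 hyC z hzq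
    have hpow : ∀ j : ℕ, y ^ j * u * (y ^ j)⁻¹ = z ^ j * u := by
      intro j
      induction j with
      | zero => simp
      | succ j ih =>
        calc y ^ (j + 1) * u * (y ^ (j + 1))⁻¹ = y * (y ^ j * u * (y ^ j)⁻¹) * y⁻¹ := by
              rw [pow_succ']; group
          _ = y * (z ^ j * u) * y⁻¹ := by rw [ih]
          _ = (y * z ^ j) * u * y⁻¹ := by group
          _ = (z ^ j * y) * u * y⁻¹ := by rw [(Commute.pow_left hyz j).eq]
          _ = z ^ j * (z * u) := by rw [hz]; group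
          _ = z ^ (j + 1) * u := by rw [pow_succ]; group
    have h1 := hpow k
    rw [hyk] at h1
    have hzk : z ^ k = 1 := by simpa using h1.symm
    obtain ⟨b, hb⟩ := (T.2.to_le (CfsgLib.PGroup.pCore_le_sylow T)) ⟨z, hzQ⟩
    have hzb : z ^ p ^ b = 1 := congrArg Subtype.val hb
    have hz1 : z = 1 := by
      rw [← orderOf_eq_one_iff]
      exact Nat.dvd_one.1 ((Nat.Coprime.pow_left b ((hp.out.coprime_iff_not_dvd).2 hk)) ▸
        Nat.dvd_gcd (orderOf_dvd_of_pow_eq_one hzb) (orderOf_dvd_of_pow_eq_one hzk))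
    rw [hz] at hz1
    rw [mul_inv_eq_one, mul_inv_eq_iff_eq_mul] at hz1
    exact hz1.symm)
  obtain ⟨b, hb⟩ := (T.2.to_le (CfsgLib.PGroup.pCore_le_sylow T)) ⟨y, hyQ⟩
  rw [← orderOf_eq_one_iff]
  exact Nat.dvd_one.1 ((Nat.Coprime.pow_left b ((hp.out.coprime_iff_not_dvd).2 hk)) ▸
    Nat.dvd_gcd (orderOf_dvd_of_pow_eq_one (congrArg Subtype.val hb : y ^ p ^ b = 1)) (orderOf_dvd_of_pow_eq_one hyk))

/-- For each root a maximal elementary abelian subgroup induces exactly that root. -/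
theorem exists_member (cf : Conf p q T M m S N) {B₀ : Subgroup H} (hB₀ : B₀ ∈ rts U p q (S : Subgroup H)) :
    ∃ A, IsMaxEA p (T : Subgroup G) A ∧ A.map (toH m) = B₀ := by
  obtain ⟨A₁, hA₁, B, hB, hBA, -⟩ := cf.exists_max_root
  obtain ⟨s, hs, rfl⟩ := cf.cfg.trans B hB B₀ hB₀
  rw [cf.sylow] at hs
  obtain ⟨t, ht, rfl⟩ := hs
  set B₀ := conjBy (toH m t) B
  set A₂ := conjBy t A₁
  have hA₂G := conjBy_mem_maxEA (mem_maxEA hA₁) t
  have hA₂T : A₂ ≤ (T : Subgroup G) :=
    conjBy_le_iff.2 fun a ha => mul_mem (mul_mem ht (hA₁.1 ha)) (inv_mem ht)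
  have hB₂ : B₀ ≤ A₂.map (toH m) := by
    rw [map_conjBy]; exact CfsgLib.Fusion.conjBy_mono hBA
  set X := A₂ ⊓ B₀.comap (toH m)
  set Vb := m.sub (fixS U B₀)
  have hVb : Vb ≤ vO p G := fun v hv => by
    obtain ⟨u, -, rfl⟩ := m.mem_sub.1 hv
    exact m.val_mem u
  have hcomm : ∀ x ∈ X, ∀ v ∈ Vb, x * v = v * x := fun x hx v hv => by
    obtain ⟨u, hu, rfl⟩ := m.mem_sub.1 hv
    exact (toH_fix_iff m x u).1 (hu _ hx.2)
  have hXC : X ⊓ Subgroup.centralizer (vO p G : Set G) = A₂ ⊓ Subgroup.centralizer (vO p G : Set G) :=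
    le_antisymm (inf_le_inf_right _ inf_le_left) fun x hx =>
      ⟨⟨hx.1, Subgroup.mem_comap.2 (by rw [(toH_eq_one m).2 hx.2]; exact one_mem _)⟩, hx.2⟩
  have hXmap : X.map (toH m) = B₀ := le_antisymm
    (Subgroup.map_le_iff_le_comap.2 inf_le_right) fun y hy => by
      obtain ⟨a, ha, rfl⟩ := hB₂ hy
      exact ⟨a, ⟨ha, hy⟩, rfl⟩
  refine ⟨X ⊔ Vb, isMaxEA_of_mem ⟨CfsgLib.EABasic.isElementaryAbelian_sup
      (CfsgLib.EABasic.isElementaryAbelian_le hA₂G.1 inf_le_left)
      (CfsgLib.EABasic.isElementaryAbelian_le Setting.omega_ea hVb) hcomm, fun D hD => (hA₂G.2 D hD).trans ?_⟩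
      (sup_le (inf_le_left.trans hA₂T) (hVb.trans vO_le_T)), ?_⟩
  swap
  · rw [Subgroup.map_sup, hXmap, sup_eq_left]
    rintro _ ⟨v, hv, rfl⟩
    rw [(toH_eq_one m).2 (cf.vO_le_centralizer (Setting.omega_le_pCore (hVb hv)))]
    exact one_mem _
  have h1 := CfsgLib.EABasic.card_sup_mul_card_inf_of_le_normalizer (H := X) (N := Vb)
    fun x hx => Subgroup.mem_normalizer_iff.2 fun v => ⟨fun hv => by rwa [hcomm x hx v hv, mul_inv_cancel_right],
      fun hv => by
        have h := hcomm x⁻¹ (inv_mem hx) _ hv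
        have e : x⁻¹ * (x * v * x⁻¹) = v * x⁻¹ := by group
        rw [e] at h
        rwa [mul_right_cancel h]⟩
  have h2 : X ⊓ Vb ≤ m.sub (fixS U (A₂.map (toH m))) := fun v hv => by
    obtain ⟨u, -, rfl⟩ := m.mem_sub.1 hv.2
    refine m.val_mem_sub.2 ((mem_fixS_map_iff m).2 (Subgroup.mem_centralizer_iff.2 fun a ha => ?_))
    exact CfsgLib.EABasic.comm_of_isElementaryAbelian hA₂G.1 ha hv.1.1
  have h3 := Subgroup.card_le_of_le h2
  rw [card_sub] at h3
  rw [← card_map_mul m X, hXmap, hXC, card_sub, hB₀.1.card] at h1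
  have h4 := cf.cfg.ctx.card_le (cf.swap_facts hA₂G).1.1
  refine Nat.le_of_mul_le_mul_right (?_ : _ * Nat.card ↥(fixS U (A₂.map (toH m))) ≤ _) Nat.card_pos
  calc Nat.card ↥A₂ * Nat.card ↥(fixS U (A₂.map (toH m)))
      = Nat.card ↥(A₂.map (toH m)) * Nat.card ↥(fixS U (A₂.map (toH m))) *
          Nat.card ↥(A₂ ⊓ Subgroup.centralizer (vO p G : Set G)) := by rw [← card_map_mul m A₂]; ring
    _ ≤ Nat.card U * Nat.card ↥(A₂ ⊓ Subgroup.centralizer (vO p G : Set G)) := Nat.mul_le_mul_right _ h4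
    _ = Nat.card ↥(X ⊔ Vb) * Nat.card ↥(X ⊓ Vb) := by rw [h1, hB₀.1.card_V cf.cfg.ctx]; ring
    _ ≤ _ := Nat.mul_le_mul_left _ h3

end Conf

end CfsgLib.CFun.MinParab.Baumann
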