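import Cfsg.Agent.Lib.CFun.MinParab.Baumann.Roots
import Cfsg.Agent.Lib.CFun.MinParab.GlueQuot
import Cfsg.Agent.Lib.LocalStructure.BaumannNormal

/-!
# The Baumann subgroup of a minimal parabolic group

With `V = Ω₁ Z(O_p(G))` and `W₀ = Ω₁ Z(J(T))`: the subgroup `Y = V W₀` is normal, the Baumann subgroup `B(T)`
induces on `V` the product of the roots, and `Q₀ = B(T) ∩ O_p(G) = C_T(Y)` is normal.
-/

set_option autoImplicit false
set_option linter.unusedSectionVars false
set_option linter.style.haveILetI false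

open CfsgLib.Char.NatSL (fixS mem_fixS fixS_mono)
open CfsgLib.Fusion (conjBy mem_conjBy conj_mem_conjBy conjBy_le_iff conjBy_eq_iff IsMaxEA)
open scoped commutatorElement

namespace CfsgLib.CFun.MinParab.Baumann

open Rec Off Glue

section hom

variable {G : Type*} [Group G] {H : Type*} [Group H] {U : Type*} [AddCommGroup U] [DistribMulAction H U]
  {V : Subgroup G}

/-- The action homomorphism on the whole group. -/
def toH (m : Mdl V ⊤ H U) : G →* H :=
  m.π.comp ((MonoidHom.id G).codRestrict ⊤ fun g => Subgroup.mem_top g)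

theorem toH_eq_one (m : Mdl V ⊤ H U) {g : G} : toH m g = 1 ↔ g ∈ Subgroup.centralizer (V : Set G) :=
  m.π_eq_one (g := ⟨g, Subgroup.mem_top g⟩)

theorem toH_surj (m : Mdl V ⊤ H U) : Function.Surjective (toH m) := fun h => by
  obtain ⟨g, rfl⟩ := m.surj h
  exact ⟨g, rfl⟩

theorem val_toH (m : Mdl V ⊤ H U) (g : G) (u : U) : m.val (toH m g • u) = g * m.val u * g⁻¹ :=
  m.val_smul ⟨g, Subgroup.mem_top g⟩ u

theorem map_toH (m : Mdl V ⊤ H U) (X : Subgroup G) : (X.subgroupOf ⊤).map m.π = X.map (toH m) := by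
  ext h
  constructor
  · rintro ⟨g, hg, rfl⟩
    exact ⟨g, hg, rfl⟩
  · rintro ⟨g, hg, rfl⟩
    exact ⟨⟨g, Subgroup.mem_top g⟩, hg, rfl⟩

theorem toH_fix_iff (m : Mdl V ⊤ H U) (g : G) (u : U) : toH m g • u = u ↔ g * m.val u = m.val u * g := by
  rw [← m.val_inj.eq_iff, val_toH, mul_inv_eq_iff_eq_mul]

theorem mem_fixS_map_iff (m : Mdl V ⊤ H U) {X : Subgroup G} {u : U} :
    u ∈ fixS U (X.map (toH m)) ↔ m.val u ∈ Subgroup.centralizer (X : Set G) := by
  rw [Subgroup.mem_centralizer_iff]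
  constructor
  · exact fun h g hg => (toH_fix_iff m g u).1 (h _ (Subgroup.mem_map_of_mem _ hg))
  · rintro h _ ⟨g, hg, rfl⟩
    exact (toH_fix_iff m g u).2 (h g hg)

theorem card_model [Finite U] (m : Mdl V ⊤ H U) : Nat.card U = Nat.card ↥V :=
  Nat.card_congr (Equiv.ofBijective (fun u => (⟨m.val u, m.val_mem u⟩ : ↥V))
    ⟨fun a b h => m.val_inj (congrArg Subtype.val h), fun v => (m.exists_val v v.2).imp fun u hu => Subtype.ext hu⟩)

theorem card_sub [Finite U] (m : Mdl V ⊤ H U) (X : AddSubgroup U) : Nat.card ↥(m.sub X) = Nat.card ↥X :=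
  (Nat.card_congr (Equiv.ofBijective
    (fun u : ↥X => (⟨m.val u, m.val_mem_sub.2 u.2⟩ : ↥(m.sub X)))
    ⟨fun a b h => Subtype.ext (m.val_inj (congrArg Subtype.val h)), fun w => by
      obtain ⟨u, hu, he⟩ := m.mem_sub.1 w.2
      exact ⟨⟨u, hu⟩, Subtype.ext he⟩⟩)).symm

theorem card_map_mul [Finite G] (m : Mdl V ⊤ H U) (A : Subgroup G) :
    Nat.card ↥(A.map (toH m)) * Nat.card ↥(A ⊓ Subgroup.centralizer (V : Set G)) = Nat.card ↥A := by
  let f : ↥A →* H := (toH m).comp A.subtype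
  have hker : Nat.card ↥f.ker = Nat.card ↥(A ⊓ Subgroup.centralizer (V : Set G)) := Nat.card_congr
    { toFun := fun a => ⟨((a : ↥A) : G), (a : ↥A).2, (toH_eq_one m).1 a.2⟩
      invFun := fun c => ⟨⟨(c : G), c.2.1⟩, (toH_eq_one m).2 c.2.2⟩
      left_inv := fun a => rfl
      right_inv := fun c => rfl }
  have hrange : f.range = A.map (toH m) := by
    rw [MonoidHom.range_comp, Subgroup.range_subtype]
  rw [Subgroup.card_eq_card_quotient_mul_card_subgroup f.ker,
    Nat.card_congr (QuotientGroup.quotientKerEquivRange f).toEquiv, hker, hrange]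

end hom

variable {G : Type*} [Group G] [Finite G] {H : Type*} [Group H] [Finite H] {U : Type*} [AddCommGroup U]
  [Finite U] [DistribMulAction H U] {p q : ℕ} [hp : Fact p.Prime] {T : Sylow p G} {M : Subgroup G}

/-- `V = Ω₁ Z(O_p(G))`. -/
abbrev vO (p : ℕ) (G : Type*) [Group G] : Subgroup G := Cfsg.omegaOneCenter p (Cfsg.pCore p G)

/-- `W₀ = Ω₁ Z(J(T))`. -/
abbrev wJ (p : ℕ) (T : Subgroup G) : Subgroup G := Cfsg.omegaOne p (Cfsg.centerThompsonOf p T)

/-- `Y = V W₀`. -/
abbrev yB (p : ℕ) (T : Subgroup G) : Subgroup G := vO p G ⊔ wJ p T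

/-- `Q₀ = B(T) ∩ O_p(G)`. -/
abbrev qB (p : ℕ) (T : Subgroup G) : Subgroup G := Cfsg.baumannSubgroupOf p T ⊓ Cfsg.pCore p G

/-- The configuration in the group. -/
structure Conf (p q : ℕ) [Fact p.Prime] (T : Sylow p G) (M : Subgroup G) (m : Mdl (vO p G) ⊤ H U)
    (S : Sylow p H) (N : Subgroup H) : Prop where
  setting : Setting G p T M
  sylow : (S : Subgroup H) = (T : Subgroup G).map (toH m)
  max : N = M.map (toH m)
  cfg : Cfg U p q S N

theorem wJ_ea : Cfsg.IsElementaryAbelian p (wJ p (T : Subgroup G)) :=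
  CfsgLib.LS.omegaOne_center_ea _

theorem conjBy_of_normal {X : Subgroup G} (h : X.Normal) (g : G) : conjBy g X = X :=
  conjBy_eq_iff.2 ((Subgroup.normalizer_eq_top_iff.2 h).symm ▸ Subgroup.mem_top g)

theorem thompson_le_centralizer_wJ :
    Cfsg.thompsonSubgroupOf p (T : Subgroup G) ≤ Subgroup.centralizer (wJ p (T : Subgroup G) : Set G) :=
  Subgroup.le_centralizer_iff.1 ((CfsgLib.LS.omegaOne_le_self _).trans inf_le_right)

theorem le_of_commutes {A X : Subgroup G} (hA : IsMaxEA p (T : Subgroup G) A) (hXT : X ≤ (T : Subgroup G))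
    (hX : Cfsg.IsElementaryAbelian p X) (hc : X ≤ Subgroup.centralizer (A : Set G)) : X ≤ A := by
  have h1 := hA.2.2 (A ⊔ X) (sup_le hA.1 hXT) (CfsgLib.EABasic.isElementaryAbelian_sup hA.2.1 hX
    fun a ha x hx => Subgroup.mem_centralizer_iff.1 (hc hx) a ha)
  exact (Subgroup.eq_of_le_of_card_ge le_sup_left h1).symm ▸ le_sup_right

theorem wJ_le_T : wJ p (T : Subgroup G) ≤ (T : Subgroup G) :=
  (CfsgLib.LS.omegaOne_le_self _).trans (inf_le_left.trans (CfsgLib.Fusion.thompsonSubgroupOf_le _))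

theorem wJ_le_maxEA {A : Subgroup G} (hA : IsMaxEA p (T : Subgroup G) A) : wJ p (T : Subgroup G) ≤ A :=
  le_of_commutes hA wJ_le_T wJ_ea (Subgroup.le_centralizer_iff.1
    ((CfsgLib.Fusion.le_thompsonSubgroupOf hA).trans thompson_le_centralizer_wJ))

theorem isMaxEA_of_mem {A : Subgroup G} (hA : A ∈ Cfsg.maxElementaryAbelianSubgroups p G)
    (hAT : A ≤ (T : Subgroup G)) : IsMaxEA p (T : Subgroup G) A :=
  ⟨hAT, hA.1, fun B _ hB => hA.2 B hB⟩

theorem conjBy_mem_maxEA {A : Subgroup G} (hA : A ∈ Cfsg.maxElementaryAbelianSubgroups p G) (g : G) :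
    conjBy g A ∈ Cfsg.maxElementaryAbelianSubgroups p G :=
  ⟨CfsgLib.Fusion.isElementaryAbelian_map _ hA.1, fun B hB => by
    rw [CfsgLib.Fusion.card_conjBy]; exact hA.2 B hB⟩

theorem sylow_le_normalizer_wJ :
    (T : Subgroup G) ≤ Subgroup.normalizer (wJ p (T : Subgroup G) : Set G) :=
  (Subgroup.le_normalizer.trans (CfsgLib.Fusion.normalizer_le_normalizer_thompsonSubgroupOf (p := p) _)).trans
    (CfsgLib.BaumannNormal.omegaOne_centerThompson_normalizer _)

theorem baumann_le : Cfsg.baumannSubgroupOf p (T : Subgroup G) ≤ (T : Subgroup G) := inf_le_left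

theorem baumann_le_centralizer_wJ :
    Cfsg.baumannSubgroupOf p (T : Subgroup G) ≤ Subgroup.centralizer (wJ p (T : Subgroup G) : Set G) :=
  inf_le_right

namespace Conf

variable {m : Mdl (vO p G) ⊤ H U} {S : Sylow p H} {N : Subgroup H}

theorem centralizer_inf (cf : Conf p q T M m S N) :
    (T : Subgroup G) ⊓ Subgroup.centralizer (vO p G : Set G) = Cfsg.pCore p G := by
  haveI := Setting.omega_normal (G := G) (p := p)
  refine le_antisymm (CfsgLib.LS.inf_le_pCore_of_normal_le T cf.setting.only _ ?_)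
    (le_inf (CfsgLib.PGroup.pCore_le_sylow T) (Subgroup.le_centralizer_iff.1 Setting.omega_le_centralizer))
  exact cf.setting.centralizer_le.1.trans cf.setting.centralizer_le.2

theorem vO_le_T : vO p G ≤ (T : Subgroup G) :=
  Setting.omega_le_pCore.trans (CfsgLib.PGroup.pCore_le_sylow T)

theorem mem_max_iff (cf : Conf p q T M m S N) {g : G} : toH m g ∈ N ↔ g ∈ M := by
  rw [cf.max]
  refine ⟨?_, fun h => Subgroup.mem_map_of_mem _ h⟩
  rintro ⟨k, hk, he⟩
  have h1 : k⁻¹ * g ∈ Subgroup.centralizer (vO p G : Set G) :=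
    (toH_eq_one m).1 (by rw [map_mul, map_inv, he, inv_mul_cancel])
  simpa using M.mul_mem hk (cf.setting.centralizer_le.2 (cf.setting.centralizer_le.1 h1))

/-- The image of a maximal elementary abelian subgroup is an exact offender and `V (A ∩ C(V))` is maximal. -/
theorem swap_facts (cf : Conf p q T M m S N) {A : Subgroup G}
    (hA : A ∈ Cfsg.maxElementaryAbelianSubgroups p G) :
    IsOff U p (A.map (toH m)) ∧
      vO p G ⊔ (A ⊓ Subgroup.centralizer (vO p G : Set G)) ∈ Cfsg.maxElementaryAbelianSubgroups p G := by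
  haveI := Setting.omega_normal (G := G) (p := p)
  obtain ⟨hel, hoff⟩ := offender_image m Setting.omega_ea hA
  rw [map_toH] at hel hoff
  refine ⟨⟨hel, hoff⟩, ?_⟩
  set C := A ⊓ Subgroup.centralizer (vO p G : Set G) with hC
  have hea : Cfsg.IsElementaryAbelian p (vO p G ⊔ C : Subgroup G) :=
    CfsgLib.EABasic.isElementaryAbelian_sup Setting.omega_ea
      (CfsgLib.EABasic.isElementaryAbelian_le hA.1 inf_le_left)
      fun v hv c hc => Subgroup.mem_centralizer_iff.1 hc.2 v hv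
  refine ⟨hea, fun B hB => (hA.2 B hB).trans ?_⟩
  have h1 := CfsgLib.EABasic.card_sup_mul_card_inf_of_le_normalizer (H := C) (N := vO p G)
    (le_top.trans (Subgroup.normalizer_eq_top_iff.2 inferInstance).ge)
  have h2 : C ⊓ vO p G ≤ m.sub (fixS U (A.map (toH m))) := fun v hv => by
    obtain ⟨u, rfl⟩ := m.exists_val v hv.2
    refine m.val_mem_sub.2 ((mem_fixS_map_iff m).2 (Subgroup.mem_centralizer_iff.2 fun a ha => ?_))
    exact CfsgLib.EABasic.comm_of_isElementaryAbelian hA.1 ha hv.1.1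
  have h3 := Subgroup.card_le_of_le h2
  rw [card_sub] at h3
  have h4 : Nat.card ↥(A.map (toH m)) * Nat.card ↥(fixS U (A.map (toH m))) ≤ Nat.card ↥(vO p G) :=
    (cf.cfg.ctx.card_le hel).trans (card_model m).le
  refine Nat.le_of_mul_le_mul_right (?_ : _ * Nat.card ↥(fixS U (A.map (toH m))) ≤ _) Nat.card_pos
  calc Nat.card ↥A * Nat.card ↥(fixS U (A.map (toH m)))
      = Nat.card ↥(A.map (toH m)) * Nat.card ↥(fixS U (A.map (toH m))) * Nat.card ↥C := by
        rw [← card_map_mul m A]; ring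
    _ ≤ Nat.card ↥(vO p G) * Nat.card ↥C := Nat.mul_le_mul_right _ h4
    _ = Nat.card ↥(C ⊔ vO p G : Subgroup G) * Nat.card ↥(C ⊓ vO p G : Subgroup G) := by rw [h1]; ring
    _ ≤ _ := by rw [sup_comm C]; exact Nat.mul_le_mul_left _ h3

theorem wJ_le_swap (cf : Conf p q T M m S N) {A : Subgroup G}
    (hA : A ∈ Cfsg.maxElementaryAbelianSubgroups p G) (g : G) (hAT : conjBy g A ≤ (T : Subgroup G)) :
    wJ p (T : Subgroup G) ≤ vO p G ⊔ (conjBy g A ⊓ Subgroup.centralizer (vO p G : Set G)) :=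
  wJ_le_maxEA (isMaxEA_of_mem (cf.swap_facts (conjBy_mem_maxEA hA g)).2
    (sup_le vO_le_T (inf_le_left.trans hAT)))

theorem wJ_le_pCore (cf : Conf p q T M m S N) : wJ p (T : Subgroup G) ≤ Cfsg.pCore p G := by
  obtain ⟨A, hA⟩ := CfsgLib.Fusion.exists_isMaxEA p (T : Subgroup G)
  refine (wJ_le_maxEA (isMaxEA_of_mem (cf.swap_facts (mem_maxEA hA)).2
    (sup_le vO_le_T (inf_le_left.trans hA.1)))).trans ?_
  rw [← cf.centralizer_inf]
  refine sup_le (le_inf vO_le_T ?_) (inf_le_inf_right _ hA.1)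
  exact Setting.omega_le_pCore.trans (Subgroup.le_centralizer_iff.1 Setting.omega_le_centralizer)

theorem yB_le_pCore (cf : Conf p q T M m S N) : yB p (T : Subgroup G) ≤ Cfsg.pCore p G :=
  sup_le Setting.omega_le_pCore cf.wJ_le_pCore

theorem vO_le_centralizer (cf : Conf p q T M m S N) :
    Cfsg.pCore p G ≤ Subgroup.centralizer (vO p G : Set G) :=
  Subgroup.le_centralizer_iff.1 Setting.omega_le_centralizer

theorem yB_ea (cf : Conf p q T M m S N) : Cfsg.IsElementaryAbelian p (yB p (T : Subgroup G)) :=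
  CfsgLib.EABasic.isElementaryAbelian_sup Setting.omega_ea wJ_ea fun v hv w hw =>
    Subgroup.mem_centralizer_iff.1 (cf.vO_le_centralizer (cf.wJ_le_pCore hw)) v hv

/-- The conjugates of maximal elementary abelian subgroups act on `Y` modulo `V` trivially. -/
theorem commutator_wJ_le (cf : Conf p q T M m S N) {A : Subgroup G} (hA : IsMaxEA p (T : Subgroup G) A) (g : G) :
    ⁅wJ p (T : Subgroup G), conjBy g A⁆ ≤ vO p G := by
  haveI := Setting.omega_normal (G := G) (p := p)
  have hD : vO p G ⊔ (A ⊓ Subgroup.centralizer (vO p G : Set G)) ≤ Cfsg.pCore p G := by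
    refine sup_le Setting.omega_le_pCore ?_
    rw [← cf.centralizer_inf]
    exact inf_le_inf_right _ hA.1
  have hmem := conjBy_mem_maxEA (cf.swap_facts (mem_maxEA hA)).2 g
  have hW : wJ p (T : Subgroup G) ≤ conjBy g (vO p G ⊔ (A ⊓ Subgroup.centralizer (vO p G : Set G))) := by
    refine wJ_le_maxEA (isMaxEA_of_mem hmem ((CfsgLib.Fusion.conjBy_mono hD).trans ?_))
    exact (conjBy_of_normal (CfsgLib.Coprime.pCore_normal' (G := G) p) g).le.trans
      (CfsgLib.PGroup.pCore_le_sylow T)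
  refine Subgroup.commutator_le.2 fun w hw a ha => ?_
  obtain ⟨d, hd, rfl⟩ := hW hw
  obtain ⟨b, hb, rfl⟩ := ha
  rw [← map_commutatorElement]
  refine Subgroup.Normal.conj_mem inferInstance _ ?_ g
  obtain ⟨v, hv, c, hc, rfl⟩ := Subgroup.mem_sup_of_normal_left.1 hd
  have hcb : c * b = b * c := CfsgLib.EABasic.comm_of_isElementaryAbelian hA.2.1 hc.1 hb
  have e : ⁅v * c, b⁆ = v * (b * v⁻¹ * b⁻¹) := by
    rw [commutatorElement_def, mul_inv_rev]
    calc v * c * b * (c⁻¹ * v⁻¹) * b⁻¹ = v * ((c * b) * c⁻¹) * v⁻¹ * b⁻¹ := by group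
      _ = v * ((b * c) * c⁻¹) * v⁻¹ * b⁻¹ := by rw [hcb]
      _ = v * (b * v⁻¹ * b⁻¹) := by group
  rw [e]
  exact mul_mem hv (Subgroup.Normal.conj_mem inferInstance _ (inv_mem hv) b)

theorem yB_normal (cf : Conf p q T M m S N) : (yB p (T : Subgroup G)).Normal := by
  haveI := Setting.omega_normal (G := G) (p := p)
  refine Subgroup.normalizer_eq_top_iff.1 ?_
  set P := Subgroup.normalizer ((yB p (T : Subgroup G) : Subgroup G) : Set G) with hP
  have hTP : (T : Subgroup G) ≤ P := fun t ht => conjBy_eq_iff.1 (by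
    show (vO p G ⊔ wJ p (T : Subgroup G)).map _ = _
    rw [Subgroup.map_sup]
    congr 1
    · exact conjBy_of_normal inferInstance t
    · exact conjBy_eq_iff.2 (sylow_le_normalizer_wJ ht))
  have hconj : ∀ (g : G) (A : Subgroup G), IsMaxEA p (T : Subgroup G) A → conjBy g A ≤ P := by
    intro g A hA a ha
    refine Subgroup.mem_normalizer_iff.2 fun y => ?_
    have hmove : ∀ b ∈ conjBy g A, ∀ y ∈ yB p (T : Subgroup G), b * y * b⁻¹ ∈ yB p (T : Subgroup G) := by
      intro b hb y hy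
      obtain ⟨v, hv, w, hw, rfl⟩ := Subgroup.mem_sup_of_normal_left.1 hy
      have h1 : ⁅w, b⁆ ∈ vO p G := cf.commutator_wJ_le hA g (Subgroup.commutator_mem_commutator hw hb)
      have e : b * (v * w) * b⁻¹ = (b * v * b⁻¹) * (⁅w, b⁆⁻¹ * w) := by
        rw [commutatorElement_def]; group
      rw [e]
      exact mul_mem (Subgroup.mem_sup_left (Subgroup.Normal.conj_mem inferInstance v hv b))
        (mul_mem (Subgroup.mem_sup_left (inv_mem h1)) (Subgroup.mem_sup_right hw))
    refine ⟨hmove a ha y, fun h => ?_⟩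
    have := hmove a⁻¹ (inv_mem ha) _ h
    simpa [mul_assoc] using this
  by_contra hne
  set L := Subgroup.normalClosure ((Cfsg.thompsonSubgroupOf p (T : Subgroup G) : Subgroup G) : Set G)
  have hLP : L ≤ P := by
    refine (Subgroup.closure_le _).2 fun x hx => ?_
    obtain ⟨y, hy, hyx⟩ := Group.mem_conjugatesOfSet_iff.1 hx
    obtain ⟨g, rfl⟩ := isConj_iff.1 hyx
    have h1 : Cfsg.thompsonSubgroupOf p (T : Subgroup G) ≤ P.comap (MulAut.conj g).toMonoidHom := by
      rw [CfsgLib.Fusion.thompsonSubgroupOf_eq]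
      exact sSup_le fun A hA => Subgroup.map_le_iff_le_comap.1 (hconj g A hA)
    exact h1 hy
  have hLM : L ≤ M := hLP.trans (cf.setting.only.2.2 P hTP hne)
  refine cf.setting.thompson_not_le ?_
  refine ((le_inf (CfsgLib.Fusion.thompsonSubgroupOf_le _) Subgroup.le_normalClosure).trans
    (CfsgLib.LS.inf_le_pCore_of_normal_le T cf.setting.only L hLM)).trans cf.vO_le_centralizer

theorem thompson_map_le (cf : Conf p q T M m S N) :
    (Cfsg.thompsonSubgroupOf p (T : Subgroup G)).map (toH m) ≤ rsup U p q (S : Subgroup H) := by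
  rw [Subgroup.map_le_iff_le_comap, CfsgLib.Fusion.thompsonSubgroupOf_eq]
  refine sSup_le fun A hA => Subgroup.map_le_iff_le_comap.1 ?_
  exact cf.cfg.off_le _ (cf.swap_facts (mem_maxEA hA)).1 (cf.sylow ▸ Subgroup.map_mono hA.1)

/-- Some maximal elementary abelian subgroup has an image with a root. -/
theorem exists_max_root (cf : Conf p q T M m S N) :
    ∃ A, IsMaxEA p (T : Subgroup G) A ∧ ∃ B, B ∈ rts U p q (S : Subgroup H) ∧ B ≤ A.map (toH m) ∧
      A.map (toH m) ≤ rsup U p q (S : Subgroup H) := by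
  obtain ⟨A, hA, hAC⟩ : ∃ A, IsMaxEA p (T : Subgroup G) A ∧
      ¬ A ≤ Subgroup.centralizer (vO p G : Set G) := by
    by_contra! h
    refine cf.setting.thompson_not_le ?_
    rw [CfsgLib.Fusion.thompsonSubgroupOf_eq]
    exact sSup_le fun A hA => h A hA
  have hoff := (cf.swap_facts (mem_maxEA hA)).1
  have hT : A.map (toH m) ≤ (S : Subgroup H) := cf.sylow ▸ Subgroup.map_mono hA.1
  have hle := cf.cfg.off_le _ hoff hT
  have hne : A.map (toH m) ≠ ⊥ := fun h => hAC fun a ha =>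
    (toH_eq_one m).1 ((Subgroup.eq_bot_iff_forall _).1 h _ (Subgroup.mem_map_of_mem _ ha))
  obtain ⟨B, hBA, hB⟩ := cf.cfg.root_le _ hoff hne
  exact ⟨A, hA, B, ⟨hB, hBA.trans hT⟩, hBA, hle⟩

end Conf

end CfsgLib.CFun.MinParab.Baumann
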