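import Cfsg.Agent.Lib.CFun.MinParab.Baumann.Image
import Cfsg.Agent.Lib.PushAmalgam.Reduce

/-!
# A pushing-up situation over the Baumann subgroup

The Baumann subgroup and a conjugate of a maximal elementary abelian subgroup inducing one root generate,
after a minimal choice, a pushing-up situation with Sylow subgroup `B(T)`. Hence a non-trivial characteristic
subgroup of `B(T)` is normal in `G`, or `B(T)` is in the exceptional class of pushing up in rank one.
-/

set_option autoImplicit false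
set_option linter.unusedSectionVars false
set_option linter.style.haveILetI false

open scoped MatrixGroups
open CfsgLib.Char.NatSL (fixS mem_fixS fixS_mono)
open CfsgLib.Fusion (conjBy mem_conjBy conj_mem_conjBy conjBy_le_iff conjBy_eq_iff conjBy_conjBy IsMaxEA
  card_conjBy conjBy_mono)
open CfsgLib.CFun.OffenderPair (fixS_sup)

namespace CfsgLib.CFun.MinParab.Baumann

open Rec Off Glue

universe u

variable {G : Type u} [Group G] [Finite G] {H : Type*} [Group H] [Finite H] {U : Type*} [AddCommGroup U]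
  [Finite U] [DistribMulAction H U] {p q : ℕ} [hp : Fact p.Prime] {T : Sylow p G} {M : Subgroup G}

namespace Conf

variable {m : Mdl (vO p G) ⊤ H U} {S : Sylow p H} {N : Subgroup H}

/-- A subgroup generated by `B(T)` and an opposite maximal elementary abelian subgroup, with the facts used. -/
theorem exists_pair_group (cf : Conf p q T M m S N) :
    ∃ (B₀ L₀ : Subgroup H) (L₁ : Subgroup G), B₀ ∈ rts U p q (S : Subgroup H) ∧
      Opp U p q (S : Subgroup H) N B₀ L₀ ∧ Cfsg.baumannSubgroupOf p (T : Subgroup G) ≤ L₁ ∧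
      L₁.map (toH m) = L₀ ⊔ others U p q (S : Subgroup H) B₀ ∧
      L₁ ⊓ Subgroup.centralizer (vO p G : Set G) ≤ Subgroup.centralizer (yB p (T : Subgroup G) : Set G) := by
  haveI := cf.yB_normal
  haveI := Setting.omega_normal (G := G) (p := p)
  obtain ⟨B₀, hB₀⟩ := cf.cfg.ne
  obtain ⟨L₀, hL₀⟩ := cf.cfg.opp B₀ hB₀
  obtain ⟨A, hA, hAmap⟩ := cf.exists_member hB₀
  obtain ⟨y, hy, hyN⟩ := SetLike.not_le_iff_exists.1 hL₀.notM
  obtain ⟨x, rfl⟩ := toH_surj m y
  set R := rsup U p q (S : Subgroup H)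
  set F := conjBy (toH m x) B₀
  set B := Cfsg.baumannSubgroupOf p (T : Subgroup G)
  set Y := yB p (T : Subgroup G)
  set W := wJ p (T : Subgroup G)
  refine ⟨B₀, L₀, B ⊔ conjBy x A, hB₀, hL₀, le_sup_left, ?_, ?_⟩
  · rw [Subgroup.map_sup, cf.map_baumann, map_conjBy, hAmap, rsup_eq hB₀, sup_right_comm, hL₀.gen _ hy hyN]
  set P' := Y ⊓ Subgroup.centralizer (A : Set G)
  set P₁ := Y ⊓ Subgroup.centralizer (conjBy x A : Set G)
  have hWP : W ≤ P' := le_inf le_sup_right fun w hw => Subgroup.mem_centralizer_iff.2 fun a ha =>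
    CfsgLib.EABasic.comm_of_isElementaryAbelian hA.2.1 ha (wJ_le_maxEA hA hw)
  have hVP : vO p G ⊔ P' = Y := le_antisymm (sup_le le_sup_left inf_le_left)
    (sup_le le_sup_left (hWP.trans le_sup_right))
  have hnormV : ∀ X : Subgroup G, X ≤ Subgroup.normalizer (vO p G : Set G) := fun X =>
    le_top.trans (Subgroup.normalizer_eq_top_iff.2 inferInstance).ge
  have hVP' : vO p G ⊓ P' = m.sub (fixS U B₀) := by
    ext v
    constructor
    · intro hv
      obtain ⟨u, rfl⟩ := m.exists_val v hv.1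
      exact m.val_mem_sub.2 (hAmap ▸ (mem_fixS_map_iff m).2 hv.2.2)
    · intro hv
      obtain ⟨u, hu, rfl⟩ := m.mem_sub.1 hv
      rw [← hAmap] at hu
      exact ⟨m.val_mem u, (le_sup_left : vO p G ≤ Y) (m.val_mem u), (mem_fixS_map_iff m).1 hu⟩
  have hcP : Nat.card ↥Y = q * Nat.card ↥P' := by
    have h1 := CfsgLib.EABasic.card_sup_mul_card_inf_of_le_normalizer (hnormV P')
    rw [sup_comm, inf_comm, hVP, hVP', card_sub, ← card_model m, hB₀.1.card_V cf.cfg.ctx] at h1
    refine Nat.eq_of_mul_eq_mul_right (Nat.card_pos : 0 < Nat.card ↥(fixS U B₀)) ?_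
    rw [h1]; ring
  have hP₁ : conjBy x P' ≤ P₁ := by
    rintro _ ⟨z, hz, rfl⟩
    refine ⟨(inferInstance : Y.Normal).conj_mem z hz.1 x, Subgroup.mem_centralizer_iff.2 ?_⟩
    rintro _ ⟨a, ha, rfl⟩
    show (MulAut.conj x) a * (MulAut.conj x) z = (MulAut.conj x) z * (MulAut.conj x) a
    rw [← map_mul, ← map_mul, Subgroup.mem_centralizer_iff.1 hz.2 a ha]
  set Z₁ := W ⊓ P₁
  have hYea := cf.yB_ea
  have hZ : Nat.card ↥Y ≤ Nat.card ↥R * (q * Nat.card ↥Z₁) := by
    have h1 := CfsgLib.EABasic.card_sup_mul_card_inf_of_le_normalizer (H := W) (N := P₁) fun w hw =>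
      Subgroup.mem_normalizer_iff.2 fun z => by
        have key : ∀ z ∈ P₁, w * z = z * w := fun z hz =>
          CfsgLib.EABasic.comm_of_isElementaryAbelian hYea (Subgroup.mem_sup_right hw) hz.1
        refine ⟨fun hz => by rwa [key z hz, mul_inv_cancel_right], fun hz => ?_⟩
        have h := key _ hz
        have e : w * z * w⁻¹ * w = w * z := by group
        rw [e] at h
        rwa [← mul_left_cancel h]
    have h2 : Nat.card ↥(W ⊔ P₁) ≤ Nat.card ↥Y := Subgroup.card_le_of_le (sup_le le_sup_right inf_le_left)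
    have h3 : Nat.card ↥W * Nat.card ↥P' ≤ Nat.card ↥Y * Nat.card ↥Z₁ := by
      refine (Nat.mul_le_mul_left _ ((card_conjBy x P').ge.trans (Subgroup.card_le_of_le hP₁))).trans ?_
      rw [← h1]
      exact Nat.mul_le_mul_right _ h2
    refine Nat.le_of_mul_le_mul_right (?_ : _ * (Nat.card ↥W * Nat.card ↥P') ≤ _ * (Nat.card ↥W * Nat.card ↥P'))
      (Nat.mul_pos Nat.card_pos Nat.card_pos)
    refine (Nat.mul_le_mul_left _ h3).trans (le_of_eq ?_)
    calc Nat.card ↥Y * (Nat.card ↥Y * Nat.card ↥Z₁)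
        = (Nat.card ↥R * Nat.card ↥W) * ((q * Nat.card ↥P') * Nat.card ↥Z₁) := by
          rw [← hcP, ← cf.card_yB]
      _ = _ := by ring
  have hVZ : vO p G ⊓ Z₁ ≤ m.sub (fixS U R ⊓ fixS U F) := by
    intro v hv
    have h1 := cf.vO_inf_wJ.le ⟨hv.1, hv.2.1⟩
    obtain ⟨u, hu, rfl⟩ := m.mem_sub.1 h1
    refine m.val_mem_sub.2 ⟨hu, ?_⟩
    show u ∈ fixS U (conjBy (toH m x) B₀)
    rw [← hAmap, ← map_conjBy, mem_fixS_map_iff]
    exact hv.2.2.2
  have hYZ : Y = vO p G ⊔ Z₁ := by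
    refine (Subgroup.eq_of_le_of_card_ge (sup_le le_sup_left (inf_le_left.trans le_sup_right)) ?_).symm
    have h1 := CfsgLib.EABasic.card_sup_mul_card_inf_of_le_normalizer (hnormV Z₁)
    have h2 := (Nat.mul_le_mul_left q ((Subgroup.card_le_of_le hVZ).trans (card_sub m _).le)).trans
      (cf.cfg.card_gap hB₀ hL₀ hy hyN)
    have h3 := cf.cfg.card_rsup_mul
    rw [sup_comm, inf_comm, ← card_model m, ← h3] at h1
    refine Nat.le_of_mul_le_mul_right (?_ : _ * Nat.card ↥(fixS U R) ≤ _) Nat.card_pos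
    calc Nat.card ↥Y * Nat.card ↥(fixS U R)
        ≤ Nat.card ↥R * (q * Nat.card ↥Z₁) * Nat.card ↥(fixS U R) := Nat.mul_le_mul_right _ hZ
      _ = Nat.card ↥(vO p G ⊔ Z₁) * (q * Nat.card ↥(vO p G ⊓ Z₁)) := by
          have : Nat.card ↥R * (q * Nat.card ↥Z₁) * Nat.card ↥(fixS U R) =
              q * (Nat.card ↥Z₁ * (Nat.card ↥R * Nat.card ↥(fixS U R))) := by ring
          rw [this, ← h1]
          ring
      _ ≤ _ := Nat.mul_le_mul_left _ h2
  rw [hYZ]
  refine fun c hc => Subgroup.le_centralizer_iff.1 (sup_le ?_ ?_) hc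
  · exact Subgroup.le_centralizer_iff.1 inf_le_right
  · refine Subgroup.le_centralizer_iff.1 (inf_le_left.trans (sup_le ?_ ?_))
    · exact baumann_le_centralizer_wJ.trans (Subgroup.centralizer_le inf_le_left)
    · exact Subgroup.le_centralizer_iff.1 (inf_le_right.trans inf_le_right)

/-- A pushing-up situation over the Baumann subgroup supplementing `T`. -/
theorem exists_sit (cf : Conf p q T M m S N) :
    ∃ L : Subgroup G, Cfsg.baumannSubgroupOf p (T : Subgroup G) ≤ L ∧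
      CfsgLib.PushUp.Sit p ((Cfsg.baumannSubgroupOf p (T : Subgroup G)).subgroupOf L) ∧
      L ⊔ (T : Subgroup G) = ⊤ := by
  classical
  obtain ⟨B₀, L₀, L₁, hB₀, hL₀, hBL₁, hmap₁, hC₁⟩ := cf.exists_pair_group
  set O := others U p q (S : Subgroup H) B₀
  set R := rsup U p q (S : Subgroup H)
  set B := Cfsg.baumannSubgroupOf p (T : Subgroup G)
  set Q₀ := qB p (T : Subgroup G)
  obtain ⟨L, ⟨hBL, hLL₁, hmap⟩, hmin⟩ :=
    (Set.toFinite {L : Subgroup G | B ≤ L ∧ L ≤ L₁ ∧ L.map (toH m) = L₀ ⊔ O}).exists_minimal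
      ⟨L₁, hBL₁, le_rfl, hmap₁⟩
  obtain ⟨y, hy, hyN⟩ := SetLike.not_le_iff_exists.1 hL₀.notM
  have hLM : ¬ L ≤ M := fun h => hyN (by
    obtain ⟨l, hl, rfl⟩ := hmap.ge (Subgroup.mem_sup_left hy)
    exact cf.mem_max_iff.2 (h hl))
  haveI := cf.qB_normal
  have hQ₀L : Q₀ ≤ L := inf_le_left.trans hBL
  have hcore : Q₀.subgroupOf L ≤ Cfsg.pCore p ↥L :=
    CfsgLib.Coprime.le_pCore ((T.2.to_le (inf_le_left.trans baumann_le)).comap_subtype)
  refine ⟨L, hBL, ⟨?_, ?_, ?_, ?_⟩, ?_⟩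
  · obtain ⟨P, hP⟩ := IsPGroup.exists_le_sylow (G := ↥L) ((T.2.to_le baumann_le).comap_subtype :
      IsPGroup p ↥(B.subgroupOf L))
    refine ⟨P, (Subgroup.eq_of_le_of_card_ge hP ?_).symm⟩
    set P' := (P : Subgroup ↥L).map L.subtype
    have hBP : B ≤ P' := fun b hb => ⟨⟨b, hBL hb⟩, hP hb, rfl⟩
    have hP'L : P' ≤ L := Subgroup.map_subtype_le _
    have hP'p : IsPGroup p P' := P.2.map _
    have h1 : Nat.card ↥(P'.map (toH m)) ≤ Nat.card ↥R := by
      refine cf.cfg.card_le_rsup hB₀ hL₀ (hP'p.map _) ?_ (hmap ▸ Subgroup.map_mono hP'L)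
      exact (others_le B₀).trans (cf.map_baumann.ge.trans (Subgroup.map_mono hBP))
    have h2 : P' ⊓ Subgroup.centralizer (vO p G : Set G) ≤ Q₀ := cf.pgroup_le_qB (hP'p.to_le inf_le_left)
      ((inf_le_inf_right _ (hP'L.trans hLL₁)).trans hC₁)
    calc Nat.card ↥(P : Subgroup ↥L) = Nat.card ↥P' :=
          (Subgroup.card_map_of_injective L.subtype_injective).symm
      _ ≤ Nat.card ↥R * Nat.card ↥Q₀ := by
          rw [← card_map_mul m P']
          exact Nat.mul_le_mul h1 (Subgroup.card_le_of_le h2)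
      _ = Nat.card ↥B := cf.card_baumann.symm
      _ = _ := (Nat.card_congr (Subgroup.subgroupOfEquivOfLe hBL).toEquiv).symm
  · intro z hz
    refine hcore (cf.centralizer_qB_le (Subgroup.mem_centralizer_iff.2 fun w hw => ?_))
    exact congrArg Subtype.val (Subgroup.mem_centralizer_iff.1 hz ⟨w, hQ₀L hw⟩ (hcore hw))
  · have hcand : ∀ K : Subgroup ↥L, B.subgroupOf L ≤ K → ¬ K ≤ M.subgroupOf L → K = ⊤ := by
      intro K hBK hKM
      obtain ⟨g, hgK, hgM⟩ := SetLike.not_le_iff_exists.1 hKM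
      set K' := K.map L.subtype
      have hBK' : B ≤ K' := fun b hb => ⟨⟨b, hBL hb⟩, hBK hb, rfl⟩
      have hRK : R ≤ K'.map (toH m) := cf.map_baumann.ge.trans (Subgroup.map_mono hBK')
      have hgm : toH m (g : G) ∈ L₀ ⊔ O := hmap ▸ Subgroup.mem_map_of_mem _ g.2
      obtain ⟨l, hl, o, ho, he⟩ :=
        exists_mul_of_mem_sup (com_sSup fun _ h => hL₀.com _ h.1 h.2).symm hgm
      have hlN : l ∉ N := fun h => hgM (cf.mem_max_iff.1 (by
        show toH m (g : G) ∈ N
        rw [he]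
        exact N.mul_mem h (cf.cfg.ctx.le_M (rsup_le_sylow (others_le B₀ ho)))))
      have hlK : l ∈ K'.map (toH m) := by
        have h1 : toH m (g : G) * o⁻¹ ∈ K'.map (toH m) :=
          mul_mem (Subgroup.mem_map_of_mem _ ⟨g, hgK, rfl⟩) (inv_mem (hRK (others_le B₀ ho)))
        rwa [he, mul_inv_cancel_right] at h1
      have hfull : K'.map (toH m) = L₀ ⊔ O := by
        refine le_antisymm (hmap ▸ Subgroup.map_mono (Subgroup.map_subtype_le _)) (sup_le ?_ ((others_le B₀).trans hRK))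
        rw [← hL₀.gen l hl hlN]
        refine sup_le ((le_rsup hB₀).trans hRK) (conjBy_le_iff.2 fun b hb => ?_)
        exact mul_mem (mul_mem hlK ((le_rsup hB₀).trans hRK hb)) (inv_mem hlK)
      have h2 := hmin ⟨hBK', (Subgroup.map_subtype_le K).trans hLL₁, hfull⟩ (Subgroup.map_subtype_le K)
      rw [eq_top_iff]
      intro k _
      obtain ⟨k', hk', he'⟩ := h2 k.2
      rwa [Subtype.ext (he' : (k' : G) = (k : G))] at hk'
    have hne : M.subgroupOf L ≠ ⊤ := fun h => hLM (Subgroup.subgroupOf_eq_top.1 h)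
    refine ⟨M.subgroupOf L, ⟨⟨hne, fun K hK => hcand K ?_ hK.not_ge⟩, ?_⟩, fun K hK => ?_⟩
    · exact (fun b hb => hK.le (cf.setting.only.2.1 (baumann_le hb)))
    · exact fun b hb => cf.setting.only.2.1 (baumann_le hb)
    · refine ((hK.1.le_iff.1 ?_).resolve_left hne).symm
      by_contra h
      exact hK.1.1 (hcand K hK.2 h)
  · obtain ⟨F, iF, iFf, hF, ⟨e⟩⟩ := hL₀.iso
    obtain ⟨n, hn⟩ := IsPGroup.iff_card.1 hB₀.1.el.pgroup
    rw [hB₀.1.card] at hn
    have hcom : Com L₀ O := (com_sSup fun _ h => hL₀.com _ h.1 h.2).symm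
    have hdec : ∀ g : ↥L, ∃ l : ↥L₀, ∃ o ∈ O, toH m (g : G) = l * o := fun g => by
      obtain ⟨l, hl, o, ho, he⟩ := exists_mul_of_mem_sup hcom (hmap ▸ Subgroup.mem_map_of_mem _ g.2)
      exact ⟨⟨l, hl⟩, o, ho, he⟩
    choose φ o ho hφ using hdec
    have huniq : ∀ (g : ↥L) (l : ↥L₀) (o' : H), o' ∈ O → toH m (g : G) = l * o' →
        (φ g : ↥L₀ ⧸ Subgroup.center ↥L₀) = l := by
      intro g l o' ho' he
      refine QuotientGroup.eq.2 (Subgroup.mem_center_iff.2 fun k => Subtype.ext ?_)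
      have h1 : ((φ g : H))⁻¹ * l = o g * o'⁻¹ := by
        have h3 := he.symm.trans (hφ g)
        calc ((φ g : H))⁻¹ * l = (φ g : H)⁻¹ * ((l : H) * o') * o'⁻¹ := by group
          _ = (φ g : H)⁻¹ * ((φ g : H) * o g) * o'⁻¹ := by rw [h3]
          _ = o g * o'⁻¹ := by group
      show (k : H) * ((φ g : H)⁻¹ * l) = (φ g : H)⁻¹ * l * k
      rw [h1]
      exact hcom _ k.2 _ (mul_mem (ho g) (inv_mem ho'))
    let ψ : ↥L →* ↥L₀ ⧸ Subgroup.center ↥L₀ :=
      MonoidHom.mk' (fun g => (φ g : ↥L₀ ⧸ Subgroup.center ↥L₀)) fun a b => by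
        rw [← QuotientGroup.mk_mul]
        refine huniq (a * b) (φ a * φ b) (o a * o b) (mul_mem (ho a) (ho b)) ?_
        rw [Subgroup.coe_mul, map_mul, hφ a, hφ b, Subgroup.coe_mul, mul_assoc, ← mul_assoc (o a),
          ← hcom _ (φ b).2 _ (ho a)]
        group
    have hψ : Function.Surjective ψ := by
      intro z
      obtain ⟨l, rfl⟩ := QuotientGroup.mk_surjective z
      obtain ⟨g, hg, hge⟩ := hmap.ge (Subgroup.mem_sup_left l.2 : (l : H) ∈ L₀ ⊔ O)
      exact ⟨⟨g, hg⟩, huniq _ l 1 (one_mem _) (by rw [mul_one]; exact hge)⟩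
    refine ⟨ψ.ker, inferInstance, F, iF, iFf, n, hF.trans hn, ⟨?_⟩⟩
    refine (QuotientGroup.quotientKerEquivOfSurjective ψ hψ).trans (QuotientGroup.congr _ _ e ?_)
    ext z
    rw [Subgroup.mem_map, Subgroup.mem_center_iff]
    constructor
    · rintro ⟨w, hw, rfl⟩ k
      obtain ⟨k', rfl⟩ := e.surjective k
      show e k' * e w = e w * e k'
      rw [← map_mul, ← map_mul, Subgroup.mem_center_iff.1 hw k']
    · intro hz
      refine ⟨e.symm z, Subgroup.mem_center_iff.2 fun k => e.injective ?_, e.apply_symm_apply z⟩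
      rw [map_mul, map_mul, e.apply_symm_apply]
      exact hz (e k)
  · by_contra h
    exact hLM (le_sup_left.trans (cf.setting.only.2.2 _ le_sup_right h))

theorem baumann_nontrivial (cf : Conf p q T M m S N) :
    Nontrivial ↥(Cfsg.baumannSubgroupOf p (T : Subgroup G)) :=
  (Subgroup.nontrivial_iff_ne_bot _).2 fun h => cf.cfg.rsup_ne_bot (by
    rw [← cf.map_baumann, h, Subgroup.map_bot])

/-- A characteristic subgroup of `B(T)` is normal in `G`, or `B(T)` is exceptional with an elementary abelian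
abelian subgroup of largest order. -/
theorem char_or_exceptional (cf : Conf p q T M m S N) :
    (∃ C : Subgroup ↥(Cfsg.baumannSubgroupOf p (T : Subgroup G)), C ≠ ⊥ ∧ C.Characteristic ∧
      (C.map (Cfsg.baumannSubgroupOf p (T : Subgroup G)).subtype).Normal) ∨
    (CfsgLib.PushAmalgam.Exceptional p ↥(Cfsg.baumannSubgroupOf p (T : Subgroup G)) ∧
      ∃ A ∈ Cfsg.maxAbelianSubgroups ↥(Cfsg.baumannSubgroupOf p (T : Subgroup G)),
        Cfsg.IsElementaryAbelian p A) := by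
  obtain ⟨L, hBL, sit, hgen⟩ := cf.exists_sit
  haveI := cf.baumann_nontrivial
  set B := Cfsg.baumannSubgroupOf p (T : Subgroup G) with hB
  have hTB : (T : Subgroup G) ≤ Subgroup.normalizer (B : Set G) :=
    CfsgLib.BaumannNormal.le_normalizer_baumann T T.2 baumann_le
  have key : ∀ C : Subgroup ↥B, C.Characteristic → (C.map (Subgroup.inclusion hBL)).Normal →
      (C.map B.subtype).Normal := by
    intro C hC hn
    refine Subgroup.normalizer_eq_top_iff.1 (top_le_iff.1 (hgen ▸ sup_le ?_ ?_))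
    · have e : C.map B.subtype = (C.map (Subgroup.inclusion hBL)).map L.subtype := by
        rw [Subgroup.map_map]; rfl
      rw [e]
      intro l hl
      refine Subgroup.mem_normalizer_iff.2 fun z => ⟨?_, ?_⟩
      · rintro ⟨w, hw, rfl⟩
        exact ⟨⟨l, hl⟩ * w * ⟨l, hl⟩⁻¹, hn.conj_mem w hw _, rfl⟩
      · rintro ⟨w, hw, he⟩
        refine ⟨⟨l, hl⟩⁻¹ * w * ⟨l, hl⟩, by simpa using hn.conj_mem w hw (⟨l, hl⟩ : ↥L)⁻¹, ?_⟩
        show l⁻¹ * (w : G) * l = z
        rw [show (w : G) = l * z * l⁻¹ from he]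
        group
    · intro t ht
      have hc : ∀ t ∈ (T : Subgroup G), ∀ z ∈ C.map B.subtype, t * z * t⁻¹ ∈ C.map B.subtype := by
        rintro t ht _ ⟨b, hb, rfl⟩
        have ht' := hTB ht
        exact ⟨Subgroup.normalizerMonoidHom B ⟨t, ht'⟩ b,
          Subgroup.characteristic_iff_map_le.1 hC _ ⟨b, hb, rfl⟩, rfl⟩
      refine Subgroup.mem_normalizer_iff.2 fun z => ⟨hc t ht z, fun hz => ?_⟩
      simpa [mul_assoc] using hc t⁻¹ (inv_mem ht) _ hz
  have hrange : (Subgroup.inclusion hBL).range = B.subgroupOf L := Subgroup.inclusion_range hBL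
  have hBp : IsPGroup p ↥B := T.2.to_le baumann_le
  rcases CfsgLib.PushAmalgam.hasPair_or_exceptional (p := p) hBp with
    ⟨S₁, S₂, h1, h2, hc1, hc2, -, -, -, -, hn⟩ | hex
  · rcases hn ↥L (Subgroup.inclusion hBL) (Subgroup.inclusion_injective hBL) (hrange.symm ▸ sit) with h | h
    · exact Or.inl ⟨S₁, h1, hc1, key S₁ hc1 h⟩
    · exact Or.inl ⟨S₂, h2, hc2, key S₂ hc2 h⟩
  · by_cases hel : ∃ A ∈ Cfsg.maxAbelianSubgroups ↥B, Cfsg.IsElementaryAbelian p A
    · exact Or.inr ⟨hex, hel⟩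
    obtain ⟨S₁, S₂, h1, h2, hc1, hc2, -, -, -, hn⟩ := hex.hasPair_of_not_elementary hel
    rcases hn ↥L (Subgroup.inclusion hBL) (Subgroup.inclusion_injective hBL) (hrange.symm ▸ sit) with h | h
    · exact Or.inl ⟨S₁, h1, hc1, key S₁ hc1 h⟩
    · exact Or.inl ⟨S₂, h2, hc2, key S₂ hc2 h⟩

end Conf

end CfsgLib.CFun.MinParab.Baumann
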