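import Cfsg.Agent.Lib.CFun.MinParab.Off
import Cfsg.Agent.Lib.Classical.SL2Sylow
import Cfsg.Agent.Lib.PGroup.ElementaryBasic

/-!
# The roots in a Sylow subgroup and their opposite blocks

`Cfg` lists what the Baumann argument uses of a module with offenders: every root `A` in the Sylow subgroup `S`
has a block `L ≅ SL(2, q)` outside the maximal subgroup centralizing all other roots of `S`, the offenders in
`S` lie in the product `rsup` of its roots, and `S` permutes the roots transitively.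
-/

set_option autoImplicit false
set_option linter.unusedSectionVars false
set_option linter.style.haveILetI false

open scoped MatrixGroups
open CfsgLib.Char.NatSL (fixS mem_fixS fixS_mono tr mem_tr card_sup_mul_card_inf)
open CfsgLib.Fusion (conjBy mem_conjBy conj_mem_conjBy conjBy_le_iff conjBy_eq_iff conjBy_conjBy conjBy_mono)
open CfsgLib.CFun.OffenderPair (fixS_sup chainStab)

namespace CfsgLib.CFun.MinParab.Baumann

open Rec Off

variable {H : Type*} [Group H] {V : Type*} [AddCommGroup V] [DistribMulAction H V] {p q : ℕ}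
  {S N A B L : Subgroup H}

/-- The roots inside `S`. -/
def rts (V : Type*) [AddCommGroup V] [DistribMulAction H V] (p q : ℕ) (S : Subgroup H) : Set (Subgroup H) :=
  {A | Root V p q A ∧ A ≤ S}

/-- The product of the roots inside `S`. -/
def rsup (V : Type*) [AddCommGroup V] [DistribMulAction H V] (p q : ℕ) (S : Subgroup H) : Subgroup H :=
  sSup (rts V p q S)

/-- The product of the roots inside `S` other than `A`. -/
def others (V : Type*) [AddCommGroup V] [DistribMulAction H V] (p q : ℕ) (S A : Subgroup H) : Subgroup H :=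
  sSup (rts V p q S \ {A})

/-- A block at the root `A` centralizing the other roots. -/
structure Opp (V : Type*) [AddCommGroup V] [DistribMulAction H V] (p q : ℕ) (S N A L : Subgroup H) : Prop where
  le : A ≤ L
  notM : ¬ L ≤ N
  gen : ∀ x ∈ L, x ∉ N → A ⊔ conjBy x A = L
  sep : ∀ a ∈ A, a ≠ 1 → ∀ v : V, a • v - v ∈ fixS V L → v ∈ fixS V A
  com : ∀ A' ∈ rts V p q S, A' ≠ A → Com A' L
  iso : ∃ (F : Type) (_ : Field F) (_ : Fintype F), Fintype.card F = q ∧ Nonempty (↥L ≃* SL(2, F))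

theorem le_rsup (hA : A ∈ rts V p q S) : A ≤ rsup V p q S := le_sSup hA

theorem rsup_le_sylow : rsup V p q S ≤ S := sSup_le fun _ h => h.2

theorem others_le (A : Subgroup H) : others V p q S A ≤ rsup V p q S := sSup_le_sSup Set.sdiff_subset

theorem rsup_eq (hA : A ∈ rts V p q S) : rsup V p q S = A ⊔ others V p q S A := by
  refine le_antisymm (sSup_le fun B hB => ?_) (sup_le (le_rsup hA) (others_le A))
  by_cases h : B = A
  · exact h ▸ le_sup_left
  · exact le_sup_of_le_right (le_sSup ⟨hB, h⟩)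

theorem com_sSup {s : Set (Subgroup H)} {X : Subgroup H} (h : ∀ A ∈ s, Com A X) : Com (sSup s) X := by
  intro a ha x hx
  have h1 : sSup s ≤ Subgroup.centralizer (X : Set H) :=
    sSup_le fun A hA a ha => Subgroup.mem_centralizer_iff.2 fun x hx => (h A hA a ha x hx).symm
  exact (Subgroup.mem_centralizer_iff.1 (h1 ha) x hx).symm

theorem mem_fixS_sSup {s : Set (Subgroup H)} {v : V} (h : ∀ A ∈ s, v ∈ fixS V A) : v ∈ fixS V (sSup s) := by
  intro g hg
  have h1 : sSup s ≤ MulAction.stabilizer H v := sSup_le fun A hA a ha => h A hA a ha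
  exact h1 hg

/-- The vectors fixed by all blocks. -/
def Zc (V : Type*) [AddCommGroup V] [DistribMulAction H V] (p q : ℕ) (S N : Subgroup H) (v : V) : Prop :=
  ∀ A L, A ∈ rts V p q S → Opp V p q S N A L → v ∈ fixS V L

theorem Zc.neg {v : V} (h : Zc V p q S N v) : Zc V p q S N (-v) := fun A L hA hL => neg_mem (h A L hA hL)

theorem card_le_of_sl2 [hp : Fact p.Prime] {F : Type} [Field F] [Fintype F] {n : ℕ} (hn : Fintype.card F = p ^ n)
    (e : ↥L ≃* SL(2, F)) {P : Subgroup H} (hP : IsPGroup p P) (hPL : P ≤ L) : Nat.card ↥P ≤ p ^ n := by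
  haveI : Finite ↥L := Finite.of_equiv _ e.toEquiv.symm
  haveI : Finite ↥P := Finite.of_injective _ (Subgroup.inclusion_injective hPL)
  have h1 : Nat.card ↥P ∣ p ^ n * ((p ^ n - 1) * (p ^ n + 1)) := by
    rw [← hn, ← CfsgLib.Classical.card_sl2, ← Nat.card_congr e.toEquiv]
    exact Subgroup.card_dvd_of_le hPL
  obtain ⟨k, hk⟩ := IsPGroup.iff_card.1 hP
  rw [hk] at h1 ⊢
  have hn1 : 1 ≤ n := Nat.one_le_iff_ne_zero.2 fun h => by
    rw [h, pow_zero] at hn
    exact absurd hn (Fintype.one_lt_card (α := F)).ne'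
  have hd : p ∣ p ^ n := dvd_pow_self p (by omega)
  have hp1 : 1 ≤ p ^ n := Nat.one_le_pow _ _ hp.out.pos
  have hcop : Nat.Coprime (p ^ k) ((p ^ n - 1) * (p ^ n + 1)) := by
    refine Nat.Coprime.pow_left _ ((hp.out.coprime_iff_not_dvd).2 fun h => ?_)
    rcases (Nat.Prime.dvd_mul hp.out).1 h with h2 | h2
    · have := Nat.dvd_sub hd h2
      rw [show p ^ n - (p ^ n - 1) = 1 by omega] at this
      exact hp.out.ne_one (Nat.dvd_one.1 this)
    · exact hp.out.ne_one (Nat.dvd_one.1 ((Nat.dvd_add_right hd).1 h2))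
  exact Nat.le_of_dvd hp1 (hcop.dvd_of_dvd_mul_right h1)

section finite

variable [Finite H] [Finite V] [hp : Fact p.Prime] {T : Sylow p H}

/-- A product of two commuting offenders is one. -/
theorem isOff_sup (hc : Ctx V p T N) {X Y : Subgroup H} (hX : IsOff V p X) (hY : IsOff V p Y) (h : Com X Y) :
    IsOff V p (X ⊔ Y) := by
  refine ⟨hX.1.sup hY.1 h, ?_⟩
  have h1 := CfsgLib.EABasic.card_sup_mul_card_inf_of_le_normalizer h.le_normalizer
  have h2 := card_sup_mul_card_inf (fixS V X) (fixS V Y)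
  have h3 : Nat.card ↥(X ⊓ Y) * Nat.card ↥(fixS V X ⊔ fixS V Y) ≤ Nat.card V :=
    (Nat.mul_le_mul_left _ (AddSubgroup.card_le_of_le
      (sup_le (fixS_mono inf_le_left) (fixS_mono inf_le_right)))).trans (hc.card_le (hX.1.mono inf_le_left))
  rw [fixS_sup]
  refine Nat.le_of_mul_le_mul_right ?_ (Nat.card_pos : 0 < Nat.card V)
  calc Nat.card V * Nat.card V
      ≤ (Nat.card ↥X * Nat.card ↥(fixS V X)) * (Nat.card ↥Y * Nat.card ↥(fixS V Y)) := Nat.mul_le_mul hX.2 hY.2
    _ = (Nat.card ↥X * Nat.card ↥Y) * (Nat.card ↥(fixS V X) * Nat.card ↥(fixS V Y)) := by ring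
    _ = (Nat.card ↥(X ⊔ Y) * Nat.card ↥(fixS V X ⊓ fixS V Y)) *
          (Nat.card ↥(X ⊓ Y) * Nat.card ↥(fixS V X ⊔ fixS V Y)) := by rw [← h1, ← h2]; ring
    _ ≤ _ := Nat.mul_le_mul_left _ h3

/-- The configuration. -/
structure Cfg (V : Type*) [AddCommGroup V] [DistribMulAction H V] (p q : ℕ) [Fact p.Prime] (T : Sylow p H)
    (N : Subgroup H) : Prop where
  ctx : Ctx V p T N
  least : Least (H := H) V p q
  ne : ∃ A, A ∈ rts V p q (T : Subgroup H)
  opp : ∀ A ∈ rts V p q (T : Subgroup H), ∃ L, Opp V p q (T : Subgroup H) N A L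
  root_le : ∀ X : Subgroup H, IsOff V p X → X ≠ ⊥ → ∃ A ≤ X, Root V p q A
  off_le : ∀ X : Subgroup H, IsOff V p X → X ≤ (T : Subgroup H) → X ≤ rsup V p q (T : Subgroup H)
  trans : ∀ A ∈ rts V p q (T : Subgroup H), ∀ A' ∈ rts V p q (T : Subgroup H),
    ∃ t ∈ (T : Subgroup H), conjBy t A = A'

namespace Cfg

theorem sys (h : Cfg V p q T N) : Sys V p q T N := ⟨h.ctx, h.least⟩

theorem com (h : Cfg V p q T N) (hA : A ∈ rts V p q (T : Subgroup H)) (hB : B ∈ rts V p q (T : Subgroup H)) :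
    Com A B :=
  h.sys.com_in T.2 hA.1 hB.1 hA.2 hB.2

theorem isOff_sSup (h : Cfg V p q T N) {s : Set (Subgroup H)} (hs : s ⊆ rts V p q (T : Subgroup H)) :
    IsOff V p (sSup s) := by
  revert hs
  refine Set.Finite.induction_on s (Set.toFinite s) (fun _ => ?_) fun {A s} _ _ ih hs => ?_
  · rw [sSup_empty]
    refine ⟨⟨fun a ha b hb => ?_, fun a ha => ?_⟩, ?_⟩
    · rw [Subgroup.mem_bot.1 ha, Subgroup.mem_bot.1 hb]
    · rw [Subgroup.mem_bot.1 ha, one_pow]
    · have e : fixS V (⊥ : Subgroup H) = ⊤ := top_le_iff.1 fun v _ g hg => by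
        rw [Subgroup.mem_bot.1 hg, one_smul]
      rw [e, AddSubgroup.card_top, Subgroup.card_bot, one_mul]
  · rw [sSup_insert]
    have hA := hs (Set.mem_insert A s)
    exact isOff_sup h.ctx ⟨hA.1.el, hA.1.card.symm ▸ hA.1.off⟩ (ih fun B hB => hs (Set.mem_insert_of_mem _ hB))
      (com_sSup fun B hB => h.com (hs (Set.mem_insert_of_mem _ hB)) hA).symm

theorem isOff_rsup (h : Cfg V p q T N) : IsOff V p (rsup V p q (T : Subgroup H)) :=
  h.isOff_sSup subset_rfl

theorem card_rsup_mul (h : Cfg V p q T N) :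
    Nat.card ↥(rsup V p q (T : Subgroup H)) * Nat.card ↥(fixS V (rsup V p q (T : Subgroup H))) = Nat.card V :=
  le_antisymm (h.ctx.card_le h.isOff_rsup.1) h.isOff_rsup.2

theorem rsup_ne_bot (h : Cfg V p q T N) : rsup V p q (T : Subgroup H) ≠ ⊥ := by
  obtain ⟨A, hA⟩ := h.ne
  exact ne_bot_of_le_ne_bot (hA.1.ne_bot h.least) (le_rsup hA)

theorem com_others (h : Cfg V p q T N) (hA : A ∈ rts V p q (T : Subgroup H)) :
    Com A (others V p q (T : Subgroup H) A) :=
  (com_sSup fun _ hB => h.com hB.1 hA).symm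

/-- The other roots move every vector into the fixed points of the block. -/
theorem others_mod (h : Cfg V p q T N) (hA : A ∈ rts V p q (T : Subgroup H))
    (hL : Opp V p q (T : Subgroup H) N A L) :
    others V p q (T : Subgroup H) A ≤ modStab (fixS V L) := by
  obtain ⟨x, hx, hxN⟩ := SetLike.not_le_iff_exists.1 hL.notM
  refine sSup_le fun B hB => commS_le_iff.1 ?_
  rw [← hL.gen x hx hxN, fixS_sup]
  exact le_inf (h.sys.le_of_com hB.1.1 hA.1 (h.com hB.1 hA))
    (h.sys.le_of_com hB.1.1 (hA.1.conj x) ((hL.com B hB.1 hB.2).mono le_rfl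
      ((le_sup_right).trans (hL.gen x hx hxN).le)))

/-- A product moving a vector into the fixed points of the block has its component fixing the vector. -/
theorem fix_of_mul (h : Cfg V p q T N) (hA : A ∈ rts V p q (T : Subgroup H))
    (hL : Opp V p q (T : Subgroup H) N A L) {a x : H} (ha : a ∈ A) (hx : x ∈ others V p q (T : Subgroup H) A)
    {v : V} (hv : (a * x) • v - v ∈ fixS V L) : a • v = v := by
  by_cases ha1 : a = 1
  · rw [ha1, one_smul]
  refine hL.sep a ha ha1 v ?_ a ha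
  have h1 : x • v - v ∈ fixS V L := h.others_mod hA hL hx v
  have h2 : a • (x • v - v) = x • v - v := h1 a (hL.le ha)
  have e : a • v - v = ((a * x) • v - v) - (x • v - v) := by
    rw [mul_smul]
    rw [smul_sub] at h2
    linear_combination (norm := abel) -h2
  rw [e]
  exact sub_mem hv h1

theorem others_inf (h : Cfg V p q T N) (hA : A ∈ rts V p q (T : Subgroup H)) :
    A ⊓ others V p q (T : Subgroup H) A = ⊥ := by
  rw [Subgroup.eq_bot_iff_forall]
  rintro a ⟨ha, ha'⟩
  obtain ⟨L, hL⟩ := h.opp A hA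
  refine h.ctx.faith a fun v => ?_
  by_cases ha1 : a = 1
  · rw [ha1, one_smul]
  exact hL.sep a ha ha1 v (h.others_mod hA hL ha' v) a ha

theorem card_rsup (h : Cfg V p q T N) (hA : A ∈ rts V p q (T : Subgroup H)) :
    Nat.card ↥(rsup V p q (T : Subgroup H)) = q * Nat.card ↥(others V p q (T : Subgroup H) A) := by
  rw [rsup_eq hA]
  have h1 := card_le_sup (h.others_inf hA)
  have h2 := card_sup_le (h.com_others hA)
  rw [hA.1.card] at h1 h2
  exact le_antisymm h2 h1

/-- An element of the product of some roots is `1` or has a non-trivial component. -/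
theorem exists_component (h : Cfg V p q T N) {r : H} (hr : r ∈ rsup V p q (T : Subgroup H)) (hr1 : r ≠ 1) :
    ∃ A ∈ rts V p q (T : Subgroup H), ∃ a ∈ A, ∃ x ∈ others V p q (T : Subgroup H) A, a ≠ 1 ∧ r = a * x := by
  suffices key : ∀ s : Set (Subgroup H), s ⊆ rts V p q (T : Subgroup H) → ∀ r ∈ sSup s, r ≠ 1 →
      ∃ A ∈ rts V p q (T : Subgroup H), ∃ a ∈ A, ∃ x ∈ others V p q (T : Subgroup H) A, a ≠ 1 ∧ r = a * x from
    key _ subset_rfl r hr hr1
  intro s
  refine Set.Finite.induction_on s (Set.toFinite s) (fun _ r hr hr1 => ?_) fun {A s} hAs _ ih hs r hr hr1 => ?_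
  · rw [sSup_empty] at hr
    exact absurd (Subgroup.mem_bot.1 hr) hr1
  rw [sSup_insert] at hr
  have hA := hs (Set.mem_insert A s)
  have hs' : s ⊆ rts V p q (T : Subgroup H) := fun B hB => hs (Set.mem_insert_of_mem _ hB)
  obtain ⟨a, ha, x, hx, rfl⟩ := exists_mul_of_mem_sup (com_sSup fun B hB => h.com (hs' hB) hA).symm hr
  by_cases ha1 : a = 1
  · rw [ha1, one_mul] at hr1 ⊢
    exact ih hs' x hx hr1
  exact ⟨A, hA, a, ha, x,
    (show sSup s ≤ others V p q (T : Subgroup H) A from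
      sSup_le_sSup fun B hB => ⟨hs' hB, fun e => hAs ((Set.mem_singleton_iff.1 e) ▸ hB)⟩) hx, ha1, rfl⟩

/-- An element of `rsup` fixes only what some root fixes. -/
theorem exists_root_fix (h : Cfg V p q T N) {r : H} (hr : r ∈ rsup V p q (T : Subgroup H)) (hr1 : r ≠ 1) :
    ∃ A ∈ rts V p q (T : Subgroup H), ∀ v : V, r • v = v → v ∈ fixS V A := by
  obtain ⟨A, hA, a, ha, x, hx, ha1, rfl⟩ := h.exists_component hr hr1
  obtain ⟨L, hL⟩ := h.opp A hA
  refine ⟨A, hA, fun v hv => h.sys.sep hA.1 ha ha1 (h.fix_of_mul hA hL ha hx ?_)⟩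
  rw [hv, sub_self]
  exact zero_mem _

/-- An element of `rsup` moving a vector into the common fixed points of the blocks fixes it. -/
theorem fix_of_zc (h : Cfg V p q T N) {r : H} (hr : r ∈ rsup V p q (T : Subgroup H)) {v : V}
    (hv : Zc V p q (T : Subgroup H) N (r • v - v)) : r • v = v := by
  suffices key : ∀ s : Set (Subgroup H), s ⊆ rts V p q (T : Subgroup H) → ∀ r ∈ sSup s,
      Zc V p q (T : Subgroup H) N (r • v - v) → r • v = v from key _ subset_rfl r hr hv
  intro s
  refine Set.Finite.induction_on s (Set.toFinite s) (fun _ r hr _ => ?_) fun {A s} hAs _ ih hs r hr hv => ?_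
  · rw [sSup_empty] at hr
    rw [Subgroup.mem_bot.1 hr, one_smul]
  rw [sSup_insert] at hr
  have hA := hs (Set.mem_insert A s)
  have hs' : s ⊆ rts V p q (T : Subgroup H) := fun B hB => hs (Set.mem_insert_of_mem _ hB)
  have hcom := (com_sSup fun B hB => h.com (hs' hB) hA).symm
  obtain ⟨a, ha, x, hx, rfl⟩ := exists_mul_of_mem_sup hcom hr
  obtain ⟨L, hL⟩ := h.opp A hA
  have hxo : x ∈ others V p q (T : Subgroup H) A :=
    (show sSup s ≤ others V p q (T : Subgroup H) A from
      sSup_le_sSup fun B hB => ⟨hs' hB, fun e => hAs ((Set.mem_singleton_iff.1 e) ▸ hB)⟩) hx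
  have hav : a • v = v := h.fix_of_mul hA hL ha hxo (hv A L hA hL)
  have e : (a * x) • v = x • v := by rw [hcom a ha x hx, mul_smul, hav]
  rw [e] at hv ⊢
  exact ih hs' x hx hv

/-- Two roots, each moving the vector of the other into the common fixed points, fix them. -/
theorem fix_pair (h : Cfg V p q T N) (hA : A ∈ rts V p q (T : Subgroup H))
    (hB : B ∈ rts V p q (T : Subgroup H)) (hne : A ≠ B) {a b : H} (ha : a ∈ A) (hb : b ∈ B) {v w : V}
    (hz : Zc V p q (T : Subgroup H) N ((b • v - v) + (a • w - w))) : b • v = v := by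
  obtain ⟨L, hL⟩ := h.opp B hB
  have h1 : a • w - w ∈ fixS V L := h.others_mod hB hL
    (le_sSup (show A ∈ rts V p q (T : Subgroup H) \ {B} from
      ⟨hA, hne⟩) ha) w
  by_cases hb1 : b = 1
  · rw [hb1, one_smul]
  refine hL.sep b hb hb1 v ?_ b hb
  have h2 := sub_mem (hz B L hB hL) h1
  rwa [add_sub_cancel_right] at h2

/-- An invariant non-trivial subgroup of `rsup` fixes no more than `rsup`. -/
theorem fixS_le_of_invariant (h : Cfg V p q T N) {X : Subgroup H} (hX : X ≤ rsup V p q (T : Subgroup H))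
    (hne : X ≠ ⊥) (hinv : (T : Subgroup H) ≤ Subgroup.normalizer (X : Set H)) :
    fixS V X ≤ fixS V (rsup V p q (T : Subgroup H)) := by
  obtain ⟨r, hr, hr1⟩ : ∃ r ∈ X, r ≠ 1 := by
    by_contra! hh
    exact hne ((Subgroup.eq_bot_iff_forall X).2 hh)
  obtain ⟨A, hA, hfix⟩ := h.exists_root_fix (hX hr) hr1
  intro v hv
  refine mem_fixS_sSup fun A' hA' => ?_
  obtain ⟨t, ht, rfl⟩ := h.trans A hA A' hA'
  rw [Rec.fixS_conjBy, mem_tr]
  exact hfix _ (smul_mem_fixS (inv_mem (hinv ht)) hv r hr)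

/-- An element of the Sylow subgroup fixing the fixed points of `rsup` lies in it. -/
theorem mem_of_fix (h : Cfg V p q T N) {x : H} (hx : x ∈ (T : Subgroup H))
    (hfix : ∀ v ∈ fixS V (rsup V p q (T : Subgroup H)), x • v = v) : x ∈ rsup V p q (T : Subgroup H) := by
  set R := rsup V p q (T : Subgroup H)
  have hcR : ∀ A ∈ rts V p q (T : Subgroup H), ∀ a ∈ A, ∀ v : V, a • v - v ∈ fixS V R := fun A hA a ha v =>
    mem_fixS_sSup fun B hB => h.sys.le_of_com hA.1 hB.1 (h.com hA hB) (sub_mem_commS ha v)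
  -- `x` normalizes every root
  have hnorm : ∀ A ∈ rts V p q (T : Subgroup H), conjBy x A = A := by
    intro A hA
    by_contra hne
    have hA' : conjBy x A ∈ rts V p q (T : Subgroup H) :=
      ⟨hA.1.conj x, conjBy_le_iff.2 fun a ha => mul_mem (mul_mem hx (hA.2 ha)) (inv_mem hx)⟩
    obtain ⟨L, hL⟩ := h.opp A hA
    obtain ⟨a, ha, ha1⟩ := hA.1.exists_ne_one h.least
    refine ha1 (h.ctx.faith a fun v => hL.sep a ha ha1 v ?_ a ha)
    have e : (x * a * x⁻¹) • (x • v) - x • v = a • v - v := by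
      rw [← mul_smul, inv_mul_cancel_right, mul_smul, ← smul_sub]
      exact hfix _ (hcR A hA a ha v)
    rw [← e]
    exact h.others_mod hA hL (le_sSup (show conjBy x A ∈ rts V p q (T : Subgroup H) \ {A} from ⟨hA', hne⟩)
      (conj_mem_conjBy ha)) _
  -- `x` centralizes every root
  have hcent : ∀ A ∈ rts V p q (T : Subgroup H), ∀ a ∈ A, x * a = a * x := by
    intro A hA a ha
    obtain ⟨v, hv, hxv⟩ := exists_fixed_mod h.ctx.vp
      (R := (T : Subgroup H) ⊓ Subgroup.normalizer (A : Set H)) (T.2.to_le inf_le_left) (X := fixS V A)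
      (fun r hr w hw => smul_mem_fixS hr.2 hw) fun htop => by
        obtain ⟨b, hb, hb1⟩ := hA.1.exists_ne_one h.least
        exact hb1 (h.ctx.faith b fun w => (htop ▸ AddSubgroup.mem_top w : w ∈ fixS V A) b hb)
    have hxv' := hxv x ⟨hx, conjBy_eq_iff.1 (hnorm A hA)⟩
    have ha' : x * a * x⁻¹ ∈ A := (hnorm A hA).le (conj_mem_conjBy ha)
    have e : (x * a * x⁻¹) • v - v = a • v - v := by
      have e1 : (x * a * x⁻¹) • (x • v) - x • v = a • v - v := by
        rw [← mul_smul, inv_mul_cancel_right, mul_smul, ← smul_sub]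
        exact hfix _ (hcR A hA a ha v)
      have e2 := hxv' _ ha'
      rw [smul_sub] at e2
      linear_combination (norm := abel) e1 - e2
    have e' : (a⁻¹ * (x * a * x⁻¹)) • v = v := by
      rw [mul_smul, inv_smul_eq_iff]
      exact sub_left_inj.1 e
    by_contra hne
    refine hv (h.sys.sep hA.1 (mul_mem (inv_mem ha) ha') (fun e'' => hne ?_) e')
    rw [inv_mul_eq_one] at e''
    exact mul_inv_eq_iff_eq_mul.1 e''.symm
  -- hence `x` stabilizes the chain of `rsup`
  have hxc : x ∈ chainStab (H := H) (fixS V R) := ⟨hfix, fun v => mem_fixS_sSup fun A hA a ha => by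
    have e : x • (a • v - v) = a • v - v := hfix _ (hcR A hA a ha v)
    rw [smul_sub, ← mul_smul, hcent A hA a ha, mul_smul] at e
    rw [smul_sub]
    linear_combination (norm := abel) e⟩
  have hRc : R ≤ chainStab (H := H) (fixS V R) := sSup_le fun A hA a ha =>
    ⟨fun w hw => hw a (le_rsup hA ha), hcR A hA a ha⟩
  have hle : R ⊔ Subgroup.zpowers x ≤ chainStab (H := H) (fixS V R) := sup_le hRc (Subgroup.zpowers_le.2 hxc)
  have hel : El p (R ⊔ Subgroup.zpowers x : Subgroup H) :=
    ⟨fun a ha b hb => chain_comm h.ctx.faith (hle ha) (hle hb),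
      fun a ha => chain_pow h.ctx.vp h.ctx.faith (hle ha)⟩
  have h1 := (Nat.mul_le_mul_left _ (AddSubgroup.card_le_of_le (fun v hv g hg => (hle hg).1 v hv :
    fixS V R ≤ fixS V (R ⊔ Subgroup.zpowers x)))).trans (h.ctx.card_le hel)
  rw [← h.card_rsup_mul] at h1
  exact (Subgroup.eq_of_le_of_card_ge le_sup_left (Nat.le_of_mul_le_mul_right h1 Nat.card_pos)).ge
    (Subgroup.mem_sup_right (Subgroup.mem_zpowers x))

/-- The fixed space of `rsup` and of an opposite root meet in index at least `q`. -/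
theorem card_gap (h : Cfg V p q T N) (hA : A ∈ rts V p q (T : Subgroup H))
    (hL : Opp V p q (T : Subgroup H) N A L) {x : H} (hx : x ∈ L) (hxN : x ∉ N) :
    q * Nat.card ↥(fixS V (rsup V p q (T : Subgroup H)) ⊓ fixS V (conjBy x A)) ≤
      Nat.card ↥(fixS V (rsup V p q (T : Subgroup H))) := by
  set R := rsup V p q (T : Subgroup H) with hR
  set R' := others V p q (T : Subgroup H) A
  obtain ⟨v, hv, hvA⟩ : ∃ v ∈ fixS V R', v ∉ fixS V A := by
    by_contra! hall
    have h1 : fixS V R' ≤ fixS V R := by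
      rw [hR, rsup_eq hA, fixS_sup]
      exact le_inf hall le_rfl
    have h2 := (h.isOff_sSup (s := rts V p q (T : Subgroup H) \ {A}) Set.sdiff_subset).2.trans
      (Nat.mul_le_mul_left (Nat.card ↥R') (AddSubgroup.card_le_of_le h1))
    rw [← h.card_rsup_mul, h.card_rsup hA] at h2
    have h3 := Nat.le_of_mul_le_mul_right h2 Nat.card_pos
    have h4 : 0 < Nat.card ↥R' := Nat.card_pos
    have h5 := Nat.mul_le_mul_right (Nat.card ↥R') h.least.two_le
    change q * Nat.card ↥R' ≤ Nat.card ↥R' at h3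
    omega
  set D := fixS V R ⊓ fixS V (conjBy x A)
  have hDL : D ≤ fixS V L := by
    rw [← hL.gen x hx hxN, fixS_sup]
    exact inf_le_inf_right _ (fixS_mono (le_rsup hA))
  have hmem : ∀ a ∈ A, a • v - v ∈ fixS V R := fun a ha => by
    rw [hR, rsup_eq hA, fixS_sup]
    exact ⟨h.sys.quad hA.1 ha v, AddSubgroup.sub_mem _ (smul_mem_fixS ((h.com_others hA).le_normalizer ha) hv) hv⟩
  rw [← hA.1.card, ← Nat.card_prod]
  refine Nat.card_le_card_of_injective (fun z : ↥A × ↥D => (⟨((z.1 : H) • v - v) + z.2,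
    add_mem (hmem _ z.1.2) z.2.2.1⟩ : ↥(fixS V R))) ?_
  rintro ⟨⟨a, ha⟩, ⟨d, hd⟩⟩ ⟨⟨b, hb⟩, ⟨e, he⟩⟩ heq
  have heq' : (a • v - v) + d = (b • v - v) + e := congrArg Subtype.val heq
  have h1 : (b⁻¹ * a) • v - v ∈ fixS V L := by
    have e1 : a • v - b • v = e - d := by linear_combination (norm := abel) heq'
    have e2 : e - d ∈ fixS V L := sub_mem (hDL he) (hDL hd)
    have e3 : b⁻¹ • (e - d) = e - d := e2 _ (inv_mem (hL.le hb))
    rw [← e1, smul_sub, inv_smul_smul, ← mul_smul] at e3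
    rw [e3, e1]
    exact e2
  by_cases hab : b⁻¹ * a = 1
  · rw [inv_mul_eq_one] at hab
    subst hab
    exact Prod.ext rfl (Subtype.ext (add_left_cancel heq'))
  · exact absurd (hL.sep _ (mul_mem (inv_mem hb) ha) hab v h1) hvA

/-- A `p`-subgroup of the block times the other roots is no larger than `rsup`. -/
theorem card_le_rsup (h : Cfg V p q T N) (hA : A ∈ rts V p q (T : Subgroup H))
    (hL : Opp V p q (T : Subgroup H) N A L) {P : Subgroup H} (hP : IsPGroup p P)
    (hle : others V p q (T : Subgroup H) A ≤ P) (hPL : P ≤ L ⊔ others V p q (T : Subgroup H) A) :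
    Nat.card ↥P ≤ Nat.card ↥(rsup V p q (T : Subgroup H)) := by
  have hcom : Com L (others V p q (T : Subgroup H) A) :=
    (com_sSup fun B hB => hL.com B hB.1 hB.2).symm
  have h1 : P ≤ (P ⊓ L) ⊔ others V p q (T : Subgroup H) A := by
    intro y hy
    obtain ⟨l, hl, r, hr, rfl⟩ := exists_mul_of_mem_sup hcom (hPL hy)
    refine mul_mem (Subgroup.mem_sup_left ⟨?_, hl⟩) (Subgroup.mem_sup_right hr)
    simpa using mul_mem hy (inv_mem (hle hr))
  obtain ⟨F, iF, iFf, hF, ⟨e⟩⟩ := hL.iso
  obtain ⟨n, hn⟩ := IsPGroup.iff_card.1 hA.1.el.pgroup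
  rw [hA.1.card] at hn
  rw [h.card_rsup hA]
  refine ((Subgroup.card_le_of_le h1).trans (card_sup_le (hcom.mono inf_le_right le_rfl))).trans
    (Nat.mul_le_mul_right _ ?_)
  rw [hn]
  exact card_le_of_sl2 (hF.trans hn) e (hP.to_le inf_le_left) inf_le_right

end Cfg

end finite

end CfsgLib.CFun.MinParab.Baumann
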