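import Cfsg.Agent.Lib.CFun.MinParab.Baumann.Block

/-!
# Opposite blocks in symmetric components

In a component acting as a symmetric group of degree `2 ^ n + 1`, the Sylow subgroup fixes one point and is
transitive on the others. The roots in it are disjoint transpositions avoiding that point; with it they give
blocks isomorphic to `SL(2, 2)`, and the offenders in it are products of transpositions.
-/

set_option autoImplicit false
set_option linter.unusedSectionVars false
set_option linter.style.haveILetI false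

open scoped MatrixGroups
open CfsgLib.Char.NatSL (fixS mem_fixS fixS_mono)
open CfsgLib.Fusion (conjBy mem_conjBy conj_mem_conjBy conjBy_le_iff conjBy_eq_iff conjBy_conjBy conjBy_mono
  card_conjBy conjBy_inv_conjBy conjBy_conjBy_inv)

namespace CfsgLib.CFun.MinParab.Baumann

open Rec Off

/-- The matrices of `S₃` on the even vectors. -/
def permMat (σ : Equiv.Perm (Fin 3)) : Matrix (Fin 2) (Fin 2) (ZMod 2) :=
  Matrix.of fun i j => (if σ j.castSucc = i.castSucc then 1 else 0) + (if σ 2 = i.castSucc then 1 else 0)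

/-- The symmetric group of degree three as `SL(2, 2)`. -/
theorem exists_perm_three_equiv : Nonempty (Equiv.Perm (Fin 3) ≃* SL(2, ZMod 2)) := by
  have hd : ∀ σ, (permMat σ).det = 1 := by decide
  have hm : ∀ σ τ, permMat (σ * τ) = permMat σ * permMat τ := by decide
  have hi : ∀ σ, permMat σ = 1 → σ = 1 := by decide
  let f : Equiv.Perm (Fin 3) →* SL(2, ZMod 2) :=
    MonoidHom.mk' (fun σ => ⟨permMat σ, hd σ⟩) fun σ τ => Subtype.ext (hm σ τ)
  have hf : Function.Injective f := (injective_iff_map_eq_one f).2 fun σ h => hi σ (congrArg Subtype.val h)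
  refine ⟨MulEquiv.ofBijective f ((Nat.bijective_iff_injective_and_card f).2 ⟨hf, ?_⟩)⟩
  rw [CfsgLib.Classical.card_sl2, ZMod.card, Nat.card_perm, Nat.card_eq_fintype_card, Fintype.card_fin]
  rfl

variable {H : Type*} [Group H] [Finite H] {V : Type*} [AddCommGroup V] [Finite V] [DistribMulAction H V]
  {p q : ℕ} [hp : Fact p.Prime] {T : Sylow p H} {N A : Subgroup H} {r : ℕ} {E : Fin r → Subgroup H}

/-- A `p`-subgroup of a component has a conjugate in that component inside the Sylow subgroup. -/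
theorem exists_conj_le_sylow (hF : Frame V p q T r E) (i : Fin r) {X : Subgroup H} (hX : IsPGroup p X)
    (hXE : X ≤ E i) : ∃ e ∈ E i, conjBy e X ≤ (T : Subgroup H) := by
  haveI := hF.normal
  obtain ⟨Q, hQ⟩ := hX.exists_le_sylow
  obtain ⟨g, hg⟩ := MulAction.exists_smul_eq H Q T
  have hgX : conjBy g X ≤ (T : Subgroup H) := by
    rw [← hg]
    exact Subgroup.map_mono hQ
  obtain ⟨n, hn, t, ht, hnt⟩ := Subgroup.mem_sup_of_normal_left.1
    (hF.parts.gen ▸ Subgroup.mem_top g⁻¹ : g⁻¹ ∈ (⨆ j, E j) ⊔ (T : Subgroup H))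
  set O := sSup (E '' {j | j ≠ i})
  have hsup : (⨆ j, E j) ≤ E i ⊔ O := iSup_le fun j => by
    by_cases h : j = i
    · exact h ▸ le_sup_left
    · exact le_sup_of_le_right (le_sSup ⟨j, h, rfl⟩)
  have hcom : Com O (E i) := com_sSup (by
    rintro _ ⟨j, hj, rfl⟩
    exact hF.parts.com j i hj)
  obtain ⟨e, he, m, hm, rfl⟩ := exists_mul_of_mem_sup hcom.symm (hsup hn)
  refine ⟨e⁻¹, inv_mem he, ?_⟩
  rintro _ ⟨y, hy, rfl⟩
  show e⁻¹ * y * e⁻¹⁻¹ ∈ (T : Subgroup H)
  rw [inv_inv]
  have h1 : (e * m * t)⁻¹ * y * (e * m * t) ∈ (T : Subgroup H) := by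
    rw [hnt, inv_inv]
    exact hgX (conj_mem_conjBy hy)
  have h2 : m * (e⁻¹ * y * e) = (e⁻¹ * y * e) * m := hcom m hm _ (mul_mem (mul_mem (inv_mem he) (hXE hy)) he)
  have h3 := mul_mem (mul_mem ht h1) (inv_mem ht)
  have e3 : t * ((e * m * t)⁻¹ * y * (e * m * t)) * t⁻¹ = m⁻¹ * ((e⁻¹ * y * e) * m) := by group
  rwa [e3, ← h2, inv_mul_cancel_left] at h3

end CfsgLib.CFun.MinParab.Baumann
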