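import Cfsg.Agent.Lib.CFun.MinParab.Baumann.Sym

/-!
# Roots and offenders in the Sylow subgroup of a symmetric component
-/

set_option autoImplicit false
set_option linter.unusedSectionVars false
set_option linter.style.haveILetI false

open scoped MatrixGroups
open CfsgLib.Char.NatSL (fixS mem_fixS fixS_mono)
open CfsgLib.Fusion (conjBy mem_conjBy conj_mem_conjBy conjBy_le_iff conjBy_eq_iff conjBy_conjBy conjBy_mono
  card_conjBy conjBy_inv_conjBy conjBy_conjBy_inv)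

namespace CfsgLib.CFun.MinParab.Baumann

open Rec Off

theorem eq_of_commute_swap {k : ℕ} {c d e : Fin k} (hd : c ≠ d) (he : c ≠ e)
    (h : Equiv.swap c d * Equiv.swap c e = Equiv.swap c e * Equiv.swap c d) : d = e := by
  by_contra hne
  have h1 := DFunLike.congr_fun h d
  simp [Equiv.swap_apply_of_ne_of_ne, hd.symm, hne, he] at h1

variable {H : Type*} [Group H] [Finite H] {V : Type*} [AddCommGroup V] [Finite V] [DistribMulAction H V]
  {p : ℕ} [hp : Fact p.Prime] {T : Sylow p H} {N A : Subgroup H} {r : ℕ} {E : Fin r → Subgroup H}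
  {n : ℕ} {i : Fin r}

/-- The Sylow subgroup fixes a point and is transitive on the others. -/
theorem exists_point (hp2 : p = 2) (hn : 1 ≤ n) (hF : Frame V p 2 T r E)
    (θ : ↥(E i) ≃* Equiv.Perm (Fin (2 ^ n + 1))) :
    ∃ a₀, (∀ x : ↥(E i), (x : H) ∈ (T : Subgroup H) → θ x a₀ = a₀) ∧
      ∀ a c, a ≠ a₀ → c ≠ a₀ → ∃ x : ↥(E i), (x : H) ∈ (T : Subgroup H) ∧ θ x a = c := by
  classical
  haveI : NeZero (2 ^ n) := ⟨by positivity⟩
  let f : Multiplicative (Fin (2 ^ n)) →* Equiv.Perm (Fin (2 ^ n + 1)) :=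
    MonoidHom.mk' (fun j => Equiv.Perm.decomposeFin.symm (0, Equiv.addRight (Multiplicative.toAdd j)))
      fun j k => Equiv.ext fun x => by
        induction x using Fin.cases with
        | zero => simp [Equiv.Perm.mul_apply, Equiv.Perm.decomposeFin_symm_apply_zero]
        | succ x => simp [Equiv.Perm.mul_apply, Equiv.Perm.decomposeFin_symm_apply_succ, add_left_comm, add_comm]
  let g : Multiplicative (Fin (2 ^ n)) →* H := (E i).subtype.comp (θ.symm.toMonoidHom.comp f)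
  have hXp : IsPGroup p g.range := by
    rw [MonoidHom.range_eq_map]
    refine IsPGroup.map ?_ g
    refine IsPGroup.of_card (n := n) ?_
    rw [Subgroup.card_top, Nat.card_congr Multiplicative.toAdd, Nat.card_eq_fintype_card, Fintype.card_fin, hp2]
  obtain ⟨e, he, hle⟩ := exists_conj_le_sylow hF i hXp (by
    rintro _ ⟨j, rfl⟩
    exact SetLike.coe_mem _)
  set π := θ ⟨e, he⟩
  have htrans : ∀ a c, a ≠ π 0 → c ≠ π 0 → ∃ x : ↥(E i), (x : H) ∈ (T : Subgroup H) ∧ θ x a = c := by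
    intro a c ha hc
    obtain ⟨u, hu⟩ := Fin.exists_succ_eq.2 (fun h => ha ((π.apply_symm_apply a).symm.trans (congrArg π h)) : π⁻¹ a ≠ 0)
    obtain ⟨w, hw⟩ := Fin.exists_succ_eq.2 (fun h => hc ((π.apply_symm_apply c).symm.trans (congrArg π h)) : π⁻¹ c ≠ 0)
    set j := Multiplicative.ofAdd (w - u)
    refine ⟨⟨e, he⟩ * θ.symm (f j) * ⟨e, he⟩⁻¹, hle ⟨g j, ⟨j, rfl⟩, rfl⟩, ?_⟩
    rw [map_mul, map_mul, map_inv, θ.apply_symm_apply, Equiv.Perm.mul_apply, Equiv.Perm.mul_apply, ← hu]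
    simp [f, j, Equiv.Perm.decomposeFin_symm_apply_succ, hw, π]
  refine ⟨π 0, fun x hx => ?_, htrans⟩
  by_contra hne
  set P : Subgroup (Equiv.Perm (Fin (2 ^ n + 1))) :=
    ((T : Subgroup H).subgroupOf (E i)).map θ.toMonoidHom
  have hP : IsPGroup p P := IsPGroup.map (T.2.comap_of_injective (E i).subtype (E i).subtype_injective) _
  have horb : MulAction.orbit ↥P (π 0) = Set.univ := by
    refine Set.eq_univ_iff_forall.2 fun c => ?_
    by_cases hc : c = π 0
    · rw [hc]; exact MulAction.mem_orbit_self _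
    obtain ⟨y, hy, hye⟩ := htrans _ c hne hc
    exact ⟨⟨θ (y * x), ⟨y * x, mul_mem hy hx, rfl⟩⟩, by
      show θ (y * x) (π 0) = c
      rw [map_mul, Equiv.Perm.mul_apply, hye]⟩
  obtain ⟨k, hk⟩ := hP.card_orbit (π 0)
  rw [horb, Nat.card_coe_set_eq, Set.ncard_univ, Nat.card_eq_fintype_card, Fintype.card_fin, hp2] at hk
  have he' : 2 ∣ 2 ^ n := dvd_pow_self 2 (by omega)
  rcases k with _ | k
  · have := Nat.two_pow_pos n
    omega
  · have h2 : 2 ∣ 2 ^ (k + 1) := dvd_pow_self 2 (by omega)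
    omega

/-- The roots of a symmetric component are transpositions. -/
theorem root_swap (hs : Sys V p 2 T N) (hn : 1 ≤ n) (θ : ↥(E i) ≃* Equiv.Perm (Fin (2 ^ n + 1)))
    (ψ : V →+ (Fin (2 ^ n + 1) → ZMod 2)) (hev : ∀ w : Fin (2 ^ n + 1) → ZMod 2, ∑ a, w a = 0 → ∃ v, ψ v = w)
    (heqv : ∀ (x : ↥(E i)) (v : V) a, ψ ((x : H) • v) a = ψ v ((θ x)⁻¹ a))
    (hA : Root V p 2 A) (hAE : A ≤ E i) :
    ∃ (t : ↥(E i)) (a b : Fin (2 ^ n + 1)), a ≠ b ∧ θ t = Equiv.swap a b ∧ A = Subgroup.zpowers (t : H) := by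
  have hk : Odd (2 ^ n + 1) := ⟨2 ^ (n - 1), by rw [← pow_succ', show n - 1 + 1 = n by omega]⟩
  obtain ⟨t, ht, ht1⟩ := hA.exists_ne_one hs.least
  have hz := hA.eq_zpowers ht ht1
  have htv : t ∈ Tv V p := by show Root V p 2 (Subgroup.zpowers t); rw [hz]; exact hA
  set σ := θ ⟨t, hAE ht⟩
  have hsq : σ * σ = 1 := by
    rw [← map_mul, ← map_one θ]
    exact congrArg θ (Subtype.ext (Tv.sq htv))
  have hinv : σ⁻¹ = σ := inv_eq_of_mul_eq_one_right hsq
  obtain ⟨a, b, hab, he⟩ := exists_eq_swap hk hsq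
    (fun h => ht1 (congrArg Subtype.val (θ.injective (h.trans (map_one θ).symm))))
    fun w w' hw hw' hwne hw'ne j => by
      obtain ⟨v, rfl⟩ := hev w hw
      obtain ⟨v', rfl⟩ := hev w' hw'
      have key : ∀ u : V, (fun j => ψ u (σ j)) ≠ ψ u → ∀ j, ψ (t • u) j + ψ u j = ψ (xc V t) j := by
        intro u hu j
        rcases hs.step htv u with h | h
        · refine absurd (funext fun l => ?_) hu
          rw [← hinv, ← heqv ⟨t, hAE ht⟩ u]
          exact congrArg (fun z => ψ z l) h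
        · rw [h, map_add, Pi.add_apply, add_comm (ψ u j), add_assoc, CharTwo.add_self_eq_zero, add_zero]
      rw [← hinv, ← heqv ⟨t, hAE ht⟩, ← heqv ⟨t, hAE ht⟩, key v hwne, key v' hw'ne]
  exact ⟨⟨t, hAE ht⟩, a, b, hab, he, hz.symm⟩

/-- Distinct roots in the Sylow subgroup are disjoint transpositions. -/
theorem swaps_disjoint (hs : Sys V p 2 T N) (θ : ↥(E i) ≃* Equiv.Perm (Fin (2 ^ n + 1))) {t u : ↥(E i)}
    {a b c d : Fin (2 ^ n + 1)} (hab : a ≠ b) (hcd : c ≠ d) (ht : θ t = Equiv.swap a b)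
    (hu : θ u = Equiv.swap c d) (hA : Subgroup.zpowers (t : H) ∈ rts V p 2 (T : Subgroup H))
    (hB : Subgroup.zpowers (u : H) ∈ rts V p 2 (T : Subgroup H)) (hne : t ≠ u) :
    a ≠ c ∧ a ≠ d ∧ b ≠ c ∧ b ≠ d := by
  have hcom : θ t * θ u = θ u * θ t := by
    rw [← map_mul, ← map_mul]
    exact congrArg θ (Subtype.ext
      (hs.com_in T.2 hA.1 hB.1 hA.2 hB.2 _ (Subgroup.mem_zpowers _) _ (Subgroup.mem_zpowers _)))
  rw [ht, hu] at hcom
  refine ⟨fun h => ?_, fun h => ?_, fun h => ?_, fun h => ?_⟩ <;> refine hne (θ.injective ?_) <;> rw [ht, hu]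
  · subst h
    rw [eq_of_commute_swap hab hcd hcom]
  · subst h
    rw [Equiv.swap_comm c a] at hcom ⊢
    rw [eq_of_commute_swap hab hcd.symm hcom]
  · subst h
    rw [Equiv.swap_comm a b] at hcom ⊢
    rw [eq_of_commute_swap hab.symm hcd hcom]
  · subst h
    rw [Equiv.swap_comm a b, Equiv.swap_comm c b] at hcom ⊢
    rw [eq_of_commute_swap hab.symm hcd.symm hcom]

/-- The roots of the component in the Sylow subgroup are conjugate in it. -/
theorem sym_trans (hp2 : p = 2) (hn : 1 ≤ n) (hc : Ctx V p T N) (hF : Frame V p 2 T r E)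
    (θ : ↥(E i) ≃* Equiv.Perm (Fin (2 ^ n + 1)))
    (ψ : V →+ (Fin (2 ^ n + 1) → ZMod 2)) (hev : ∀ w : Fin (2 ^ n + 1) → ZMod 2, ∑ a, w a = 0 → ∃ v, ψ v = w)
    (heqv : ∀ (x : ↥(E i)) (v : V) a, ψ ((x : H) • v) a = ψ v ((θ x)⁻¹ a))
    {A B : Subgroup H} (hA : A ∈ rts V p 2 (T : Subgroup H)) (hAE : A ≤ E i)
    (hB : B ∈ rts V p 2 (T : Subgroup H)) (hBE : B ≤ E i) :
    ∃ s ∈ (T : Subgroup H), conjBy s A = B := by
  have hs : Sys V p 2 T N := ⟨hc, hF.least⟩
  obtain ⟨a₀, hfix, htr⟩ := exists_point hp2 hn hF θ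
  obtain ⟨t, a, b, hab, ht, rfl⟩ := root_swap hs hn θ ψ hev heqv hA.1 hAE
  obtain ⟨u, c, d, hcd, hu, rfl⟩ := root_swap hs hn θ ψ hev heqv hB.1 hBE
  have hav : ∀ {t : ↥(E i)} {a b}, a ≠ b → θ t = Equiv.swap a b → (t : H) ∈ (T : Subgroup H) → a ≠ a₀ := by
    intro t a b hab ht htT h
    have h1 := hfix t htT
    rw [ht, ← h, Equiv.swap_apply_left] at h1
    exact hab h1.symm
  obtain ⟨x, hx, hxa⟩ := htr a c (hav hab ht (hA.2 (Subgroup.mem_zpowers _)))
    (hav hcd hu (hB.2 (Subgroup.mem_zpowers _)))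
  refine ⟨x, hx, ?_⟩
  have e : conjBy (x : H) (Subgroup.zpowers (t : H)) = Subgroup.zpowers ((x * t * x⁻¹ : ↥(E i)) : H) :=
    MonoidHom.map_zpowers _ _
  rw [e]
  by_contra hne
  have hne' : x * t * x⁻¹ ≠ u := fun h => hne (by rw [h])
  have hxt : θ (x * t * x⁻¹) = Equiv.swap c (θ x b) := by
    rw [map_mul, map_mul, map_inv, ht, ← Equiv.swap_apply_apply, hxa]
  refine (swaps_disjoint hs θ (fun h => hab ((θ x).injective (hxa.trans h))) hcd hxt hu
    (e ▸ conj_rts hx hA) hB hne').1 rfl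

/-- The opposite block of a root of a symmetric component. -/
theorem sym_opp (hp2 : p = 2) (hn : 1 ≤ n) (hc : Ctx V p T N) (hF : Frame V p 2 T r E)
    (θ : ↥(E i) ≃* Equiv.Perm (Fin (2 ^ n + 1)))
    (ψ : V →+ (Fin (2 ^ n + 1) → ZMod 2)) (hev : ∀ w : Fin (2 ^ n + 1) → ZMod 2, ∑ a, w a = 0 → ∃ v, ψ v = w)
    (hker : ∀ v, ψ v = 0 ↔ v ∈ fixS V (E i))
    (heqv : ∀ (x : ↥(E i)) (v : V) a, ψ ((x : H) • v) a = ψ v ((θ x)⁻¹ a))
    (hA : A ∈ rts V p 2 (T : Subgroup H)) (hAE : A ≤ E i) :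
    ∃ L, Opp V p 2 (T : Subgroup H) N A L := by
  classical
  have hs : Sys V p 2 T N := ⟨hc, hF.least⟩
  obtain ⟨a₀, hfix, htr⟩ := exists_point hp2 hn hF θ
  obtain ⟨t, a, b, hab, ht, rfl⟩ := root_swap hs hn θ ψ hev heqv hA.1 hAE
  have htT : (t : H) ∈ (T : Subgroup H) := hA.2 (Subgroup.mem_zpowers _)
  have hav : ∀ {t : ↥(E i)} {a b}, a ≠ b → θ t = Equiv.swap a b → (t : H) ∈ (T : Subgroup H) → a ≠ a₀ := by
    intro t a b hab ht htT h
    have h1 := hfix t htT
    rw [ht, ← h, Equiv.swap_apply_left] at h1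
    exact hab h1.symm
  have ha : a ≠ a₀ := hav hab ht htT
  have hb : b ≠ a₀ := hav hab.symm (ht.trans (Equiv.swap_comm a b)) htT
  let ι : Fin 3 ↪ Fin (2 ^ n + 1) := ⟨![a, b, a₀], by
    intro u v h
    fin_cases u <;> fin_cases v <;> simp_all [eq_comm]⟩
  have hsw : ∀ u v : Fin 3, (Equiv.swap u v).viaEmbedding ι = Equiv.swap (ι u) (ι v) := by
    intro u v
    refine Equiv.ext fun z => ?_
    by_cases hz : z ∈ Set.range ι
    · obtain ⟨w, rfl⟩ := hz
      rw [Equiv.Perm.viaEmbedding_apply, ι.injective.swap_apply]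
    · rw [Equiv.Perm.viaEmbedding_apply_of_notMem _ _ _ hz, Equiv.swap_apply_of_ne_of_ne
        (fun h => hz ⟨u, h.symm⟩) (fun h => hz ⟨v, h.symm⟩)]
  let f : Equiv.Perm (Fin 3) →* H :=
    (E i).subtype.comp (θ.symm.toMonoidHom.comp (Equiv.Perm.viaEmbeddingHom ι))
  have hf : Function.Injective f :=
    (E i).subtype_injective.comp (θ.symm.injective.comp (Equiv.Perm.viaEmbeddingHom_injective ι))
  have hfval : ∀ σ, f σ = ((θ.symm (σ.viaEmbedding ι) : ↥(E i)) : H) := fun σ => rfl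
  have hf01 : f (Equiv.swap 0 1) = (t : H) := by
    rw [hfval, hsw]
    show ((θ.symm (Equiv.swap a b) : ↥(E i)) : H) = t
    rw [← ht, θ.symm_apply_apply]
  have hfE : f.range ≤ E i := by
    rintro _ ⟨σ, rfl⟩
    exact SetLike.coe_mem _
  have hle : Subgroup.zpowers (t : H) ≤ f.range := Subgroup.zpowers_le.2 ⟨_, hf01⟩
  obtain ⟨e3⟩ := exists_perm_three_equiv
  refine ⟨f.range, Opp.mk' hs hA hle (fun hN => ?_) (fun B hB hBA => ?_) ?_
    (fun x hx v hv => ?_) ⟨ZMod 2, inferInstance, inferInstance, ZMod.card 2,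
      ⟨(MonoidHom.ofInjective hf).symm.trans e3⟩⟩⟩
  · refine hc.ne_top (top_le_iff.1 (hF.parts.gen ▸ sup_le (iSup_le fun j => ?_) hc.le_M))
    suffices hi : E i ≤ N by
      obtain ⟨s, hs', he⟩ := hF.parts.trans i j
      rw [← he]
      exact conjBy_le_iff.2 fun y hy => mul_mem (mul_mem (hc.le_M hs') (hi hy)) (inv_mem (hc.le_M hs'))
    have hstar : ∀ c, c ≠ a₀ → ((θ.symm (Equiv.swap c a₀) : ↥(E i)) : H) ∈ N := by
      intro c hc'
      obtain ⟨x, hx, hxa⟩ := htr a c ha hc'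
      have h1 : f (Equiv.swap 0 2) ∈ N := hN ⟨_, rfl⟩
      rw [hfval, hsw] at h1
      have e : Equiv.swap c a₀ = θ x * Equiv.swap a a₀ * (θ x)⁻¹ := by
        rw [← Equiv.swap_apply_apply, hxa, hfix x hx]
      rw [e, map_mul, map_mul, map_inv, θ.symm_apply_apply]
      exact N.mul_mem (N.mul_mem (hc.le_M hx) h1) (N.inv_mem (hc.le_M hx))
    intro y hy
    have key : ∀ σ : Equiv.Perm (Fin (2 ^ n + 1)), ((θ.symm σ : ↥(E i)) : H) ∈ N := by
      intro σ
      induction σ using Equiv.Perm.swap_induction_on with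
      | one => rw [map_one]; exact N.one_mem
      | swap_mul σ c d hcd ih =>
        rw [map_mul]
        refine N.mul_mem ?_ ih
        by_cases hc' : c = a₀
        · rw [hc', Equiv.swap_comm]
          exact hstar d fun h => hcd (hc'.trans h.symm)
        by_cases hd : d = a₀
        · rw [hd]
          exact hstar c hc'
        rw [← swap_mul_swap_mul_swap_star (Ne.symm hc') (Ne.symm hd) hcd, Equiv.swap_comm a₀ c,
          Equiv.swap_comm a₀ d, map_mul, map_mul]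
        exact N.mul_mem (N.mul_mem (hstar c hc') (hstar d hd)) (hstar c hc')
    simpa using key (θ ⟨y, hy⟩)
  · obtain ⟨j, hj⟩ := hF.covered B hB.1
    by_cases hji : j = i
    swap
    · exact (hF.parts.com j i hji).mono hj hfE
    subst hji
    obtain ⟨u, c, d, hcd, hu, rfl⟩ := root_swap hs hn θ ψ hev heqv hB.1 hj
    have huT : (u : H) ∈ (T : Subgroup H) := hB.2 (Subgroup.mem_zpowers _)
    obtain ⟨h1, h2, h3, h4⟩ := swaps_disjoint hs θ hab hcd ht hu hA hB (fun h => hBA (by rw [h]))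
    have hc0 : c ≠ a₀ := hav hcd hu huT
    have hd0 : d ≠ a₀ := hav hcd.symm (hu.trans (Equiv.swap_comm c d)) huT
    rintro y hy z ⟨σ, rfl⟩
    have hk : (u : H) * f σ = f σ * (u : H) := by
      rw [hfval]
      refine congrArg Subtype.val (θ.injective (?_ : θ (u * θ.symm (σ.viaEmbedding ι)) =
        θ (θ.symm (σ.viaEmbedding ι) * u)))
      rw [map_mul, map_mul, θ.apply_symm_apply, hu]
      refine Equiv.Perm.Disjoint.commute fun z => ?_
      by_cases hz : z ∈ Set.range ι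
      · left
        obtain ⟨w, rfl⟩ := hz
        have hι : ι w = a ∨ ι w = b ∨ ι w = a₀ := by
          fin_cases w
          exacts [Or.inl rfl, Or.inr (Or.inl rfl), Or.inr (Or.inr rfl)]
        rcases hι with e | e | e <;> rw [e]
        · exact Equiv.swap_apply_of_ne_of_ne h1 h2
        · exact Equiv.swap_apply_of_ne_of_ne h3 h4
        · exact Equiv.swap_apply_of_ne_of_ne hc0.symm hd0.symm
      · exact Or.inr (Equiv.Perm.viaEmbedding_apply_of_notMem _ _ _ hz)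
    obtain ⟨m, rfl⟩ := Subgroup.mem_zpowers_iff.1 hy
    exact (Commute.zpow_left hk m).eq
  · rintro _ ⟨σ, rfl⟩
    have hconj : conjBy (f σ) (Subgroup.zpowers (t : H)) =
        (Subgroup.zpowers (σ * Equiv.swap 0 1 * σ⁻¹)).map f := by
      rw [MonoidHom.map_zpowers, map_mul, map_mul, map_inv, hf01]
      exact MonoidHom.map_zpowers _ _
    have hz : Subgroup.zpowers (t : H) = (Subgroup.zpowers (Equiv.swap (0 : Fin 3) 1)).map f := by
      rw [MonoidHom.map_zpowers, hf01]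
    have key : ∀ σ : Equiv.Perm (Fin 3), σ * Equiv.swap 0 1 * σ⁻¹ = Equiv.swap 0 1 ∨
        ∀ τ : Equiv.Perm (Fin 3), τ ∈ [1, Equiv.swap 0 1, σ * Equiv.swap 0 1 * σ⁻¹,
          Equiv.swap 0 1 * (σ * Equiv.swap 0 1 * σ⁻¹), σ * Equiv.swap 0 1 * σ⁻¹ * Equiv.swap 0 1,
          Equiv.swap 0 1 * (σ * Equiv.swap 0 1 * σ⁻¹) * Equiv.swap 0 1] := by decide
    rcases key σ with h | h
    · left
      rw [hconj, h, ← hz]
    · right
      rw [hconj, hz, ← Subgroup.map_sup, MonoidHom.range_eq_map]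
      refine congrArg _ (top_le_iff.1 fun τ _ => ?_)
      have h0 : Equiv.swap (0 : Fin 3) 1 ∈ Subgroup.zpowers (Equiv.swap (0 : Fin 3) 1) ⊔
          Subgroup.zpowers (σ * Equiv.swap 0 1 * σ⁻¹) := Subgroup.mem_sup_left (Subgroup.mem_zpowers _)
      have h1 : σ * Equiv.swap 0 1 * σ⁻¹ ∈ Subgroup.zpowers (Equiv.swap (0 : Fin 3) 1) ⊔
          Subgroup.zpowers (σ * Equiv.swap 0 1 * σ⁻¹) := Subgroup.mem_sup_right (Subgroup.mem_zpowers _)
      have hτ := h τ
      simp only [List.mem_cons, List.not_mem_nil, or_false] at hτ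
      rcases hτ with e | e | e | e | e | e <;> rw [e] <;>
        first
          | exact one_mem _
          | exact h0
          | exact h1
          | exact mul_mem h0 h1
          | exact mul_mem h1 h0
          | exact mul_mem (mul_mem h0 h1) h0
  · refine hF.nofix i x (hAE hx) (hA.1.el.pow x hx) v ((hker _).1 (funext fun z => ?_))
    obtain ⟨m, rfl⟩ := Subgroup.mem_zpowers_iff.1 hx
    have hmem : ∀ g ∈ f.range, g • (((t : H) ^ m) • v - v) = ((t : H) ^ m) • v - v := fun g hg => hv g hg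
    by_cases hzr : z ∈ Set.range ι
    swap
    · rw [map_sub, Pi.sub_apply, Pi.zero_apply, sub_eq_zero]
      have h1 := heqv (t ^ m) v z
      rw [SubgroupClass.coe_zpow] at h1
      rw [h1, map_zpow, ht, ← Equiv.swap_inv a b, ← zpow_neg_one, ← zpow_mul, ← zpow_neg_one, ← zpow_mul]
      refine congrArg (ψ v) (Equiv.Perm.zpow_apply_eq_self_of_apply_eq_self (Equiv.swap_apply_of_ne_of_ne ?_ ?_) _)
      · exact fun h => hzr ⟨0, h.symm⟩
      · exact fun h => hzr ⟨1, h.symm⟩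
    -- the difference is constant on the three points and vanishes at `a₀`
    obtain ⟨w, rfl⟩ := hzr
    have h2 := hmem _ ⟨Equiv.swap w 2, rfl⟩
    have h3 := congrArg (fun u => ψ u (ι w)) h2
    rw [hfval, heqv, θ.apply_symm_apply, hsw, Equiv.swap_inv, Equiv.swap_apply_left] at h3
    rw [← h3]
    show ψ (((t : H) ^ m) • v - v) a₀ = 0
    rw [map_sub, Pi.sub_apply, sub_eq_zero]
    have h4 := heqv (t ^ m) v a₀
    rw [SubgroupClass.coe_zpow] at h4
    rw [h4, map_zpow, ht, ← zpow_neg_one, ← zpow_mul]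
    exact congrArg (ψ v)
      (Equiv.Perm.zpow_apply_eq_self_of_apply_eq_self (Equiv.swap_apply_of_ne_of_ne ha.symm hb.symm) _)

/-- An offender of the component in the Sylow subgroup lies in the product of the roots. -/
theorem sym_off (hp2 : p = 2) (hn : 1 ≤ n) (hc : Ctx V p T N) (hF : Frame V p 2 T r E)
    (θ : ↥(E i) ≃* Equiv.Perm (Fin (2 ^ n + 1)))
    (ψ : V →+ (Fin (2 ^ n + 1) → ZMod 2)) (hev : ∀ w : Fin (2 ^ n + 1) → ZMod 2, ∑ a, w a = 0 → ∃ v, ψ v = w)
    (hker : ∀ v, ψ v = 0 ↔ v ∈ fixS V (E i))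
    (heqv : ∀ (x : ↥(E i)) (v : V) a, ψ ((x : H) • v) a = ψ v ((θ x)⁻¹ a)) :
    ∀ (k : ℕ) (P : Subgroup H), Nat.card ↥P ≤ k → IsOff V p P → P ≤ E i → P ≤ (T : Subgroup H) →
      P ≤ rsup V p 2 (T : Subgroup H) := by
  classical
  intro k
  induction k with
  | zero => exact fun P h => absurd h (not_le.2 Nat.card_pos)
  | succ k ih =>
    intro P hk hP hPE hPT
    by_cases hne : P = ⊥
    · rw [hne]; exact bot_le
    have hs : Sys V p 2 T N := ⟨hc, hF.least⟩
    obtain ⟨A, hAP, hA⟩ := hF.exists_root_le hc hP hne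
    obtain ⟨t, a, b, hab, ht, rfl⟩ := root_swap hs hn θ ψ hev heqv hA (hAP.trans hPE)
    have htP : (t : H) ∈ P := hAP (Subgroup.mem_zpowers _)
    let P₀ : Subgroup H :=
      { carrier := {x | ∃ h : x ∈ P, θ ⟨x, hPE h⟩ a = a}
        one_mem' := ⟨one_mem _, by
          rw [show (⟨1, hPE (one_mem P)⟩ : ↥(E i)) = 1 from rfl, map_one, Equiv.Perm.one_apply]⟩
        mul_mem' := fun {x y} ⟨hx, hxa⟩ ⟨hy, hya⟩ => ⟨mul_mem hx hy, by
          rw [show (⟨x * y, hPE (mul_mem hx hy)⟩ : ↥(E i)) = ⟨x, hPE hx⟩ * ⟨y, hPE hy⟩ from rfl, map_mul,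
            Equiv.Perm.mul_apply, hya, hxa]⟩
        inv_mem' := fun {x} ⟨hx, hxa⟩ => ⟨inv_mem hx, by
          rw [show (⟨x⁻¹, hPE (inv_mem hx)⟩ : ↥(E i)) = ⟨x, hPE hx⟩⁻¹ from rfl, map_inv,
            Equiv.Perm.inv_eq_iff_eq, hxa]⟩ }
    have hP₀P : P₀ ≤ P := fun x hx => hx.1
    have hpres : ∀ (x : H) (hx : x ∈ P), θ ⟨x, hPE hx⟩ a = a ∨ θ ⟨x, hPE hx⟩ a = b := by
      intro x hx
      by_contra hh
      push Not at hh
      have h1 : θ ⟨x, hPE hx⟩ * θ t = θ t * θ ⟨x, hPE hx⟩ := by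
        rw [← map_mul, ← map_mul]
        exact congrArg θ (Subtype.ext (hP.1.comm x hx t htP))
      rw [ht] at h1
      have h2 := DFunLike.congr_fun h1 a
      rw [Equiv.Perm.mul_apply, Equiv.Perm.mul_apply, Equiv.swap_apply_left,
        Equiv.swap_apply_of_ne_of_ne hh.1 hh.2] at h2
      exact hab ((θ ⟨x, hPE hx⟩).injective h2.symm)
    have hsplit : P ≤ Subgroup.zpowers (t : H) ⊔ P₀ := by
      intro x hx
      rcases hpres x hx with h | h
      · exact Subgroup.mem_sup_right ⟨hx, h⟩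
      · have h1 : (t : H) * x ∈ P₀ := ⟨mul_mem htP hx, by
          rw [show (⟨(t : H) * x, hPE (mul_mem htP hx)⟩ : ↥(E i)) = t * ⟨x, hPE hx⟩ from rfl, map_mul,
            Equiv.Perm.mul_apply, h, ht, Equiv.swap_apply_right]⟩
        simpa using mul_mem (Subgroup.mem_sup_left (inv_mem (Subgroup.mem_zpowers (t : H))) :
          (t : H)⁻¹ ∈ Subgroup.zpowers (t : H) ⊔ P₀) (Subgroup.mem_sup_right h1)
    have hcard : Nat.card ↥P ≤ 2 * Nat.card ↥P₀ := by
      refine (Subgroup.card_le_of_le hsplit).trans ((card_sup_le fun y hy z hz => ?_).trans (by rw [hA.card]))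
      exact hP.1.comm y (hAP hy) z (hP₀P hz)
    have htP₀ : (t : H) ∉ P₀ := fun ⟨h, hh⟩ => by
      rw [show (⟨(t : H), hPE h⟩ : ↥(E i)) = t from rfl, ht, Equiv.swap_apply_left] at hh
      exact hab hh.symm
    -- a fixed point other than `a`, `b`
    obtain ⟨c, hca, hcb, hcfix⟩ : ∃ c, c ≠ a ∧ c ≠ b ∧ ∀ x (hx : x ∈ P₀), θ ⟨x, hPE (hP₀P hx)⟩ c = c := by
      let φ : ↥P₀ →* Equiv.Perm (Fin (2 ^ n + 1)) :=
        θ.toMonoidHom.comp (Subgroup.inclusion (hP₀P.trans hPE))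
      letI : MulAction ↥P₀ (Fin (2 ^ n + 1)) := MulAction.compHom _ φ
      have hmod := (T.2.to_le (hP₀P.trans hPT)).card_modEq_card_fixedPoints (Fin (2 ^ n + 1))
      rw [hp2, Nat.card_eq_fintype_card, Fintype.card_fin] at hmod
      by_contra! hall
      have hbfix : ∀ x (hx : x ∈ P₀), θ ⟨x, hPE (hP₀P hx)⟩ b = b := by
        intro x hx
        obtain ⟨hxP, hxa⟩ := hx
        have h1 : θ ⟨x, hPE hxP⟩ * θ t = θ t * θ ⟨x, hPE hxP⟩ := by
          rw [← map_mul, ← map_mul]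
          exact congrArg θ (Subtype.ext (hP.1.comm x hxP t htP))
        have h2 := DFunLike.congr_fun h1 a
        rwa [ht, Equiv.Perm.mul_apply, Equiv.Perm.mul_apply, Equiv.swap_apply_left, hxa,
          Equiv.swap_apply_left] at h2
      have hfx : MulAction.fixedPoints ↥P₀ (Fin (2 ^ n + 1)) = {a, b} := by
        ext z
        simp only [MulAction.mem_fixedPoints, Set.mem_insert_iff, Set.mem_singleton_iff]
        refine ⟨fun h => ?_, ?_⟩
        · by_contra hz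
          push Not at hz
          obtain ⟨x, hx, hne'⟩ := hall z hz.1 hz.2
          exact hne' (h ⟨x, hx⟩)
        · rintro (rfl | rfl) x
          · exact x.2.2
          · exact hbfix x x.2
      rw [hfx, Nat.card_coe_set_eq, Set.ncard_pair hab] at hmod
      have h2 : 2 ∣ 2 ^ n := dvd_pow_self 2 (by omega)
      unfold Nat.ModEq at hmod
      omega
    obtain ⟨v, hv⟩ := hev (atomPair a c) (sum_atomPair a c)
    have hv₀ : v ∈ fixS V P₀ := by
      intro x hx
      refine hF.nofix i x (hPE (hP₀P hx)) (hP.1.pow x (hP₀P hx)) v ((hker _).1 (funext fun z => ?_))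
      obtain ⟨hxP, hxa⟩ := hx
      have hxc := hcfix x ⟨hxP, hxa⟩
      have h1 := heqv ⟨x, hPE hxP⟩ v z
      rw [map_sub, Pi.sub_apply, Pi.zero_apply, sub_eq_zero]
      refine h1.trans ?_
      rw [hv]
      set σ := θ ⟨x, hPE hxP⟩
      have e1 : (σ⁻¹ z = a) = (z = a) := propext
        ⟨fun e => ((σ.apply_symm_apply z).symm.trans (congrArg σ e)).trans hxa, fun e => by rw [e, Equiv.Perm.inv_eq_iff_eq, hxa]⟩
      have e2 : (σ⁻¹ z = c) = (z = c) := propext
        ⟨fun e => ((σ.apply_symm_apply z).symm.trans (congrArg σ e)).trans hxc, fun e => by rw [e, Equiv.Perm.inv_eq_iff_eq, hxc]⟩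
      simp only [atomPair, Pi.add_apply, Pi.single_apply, e1, e2]
    have hvt : v ∉ fixS V P := fun h => by
      have h1 := heqv t v a
      rw [h _ htP, ht, Equiv.swap_inv, Equiv.swap_apply_left, hv] at h1
      simp [atomPair, Pi.single_apply, hab.symm, hcb.symm, hca.symm] at h1
    have hdouble : 2 * Nat.card ↥(fixS V P) ≤ Nat.card ↥(fixS V P₀) := by
      have hd := AddSubgroup.card_dvd_of_le (fixS_mono (V := V) hP₀P)
      obtain ⟨l, hl⟩ := hd
      rcases l with _ | _ | l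
      · rw [mul_zero] at hl
        exact absurd hl Nat.card_pos.ne'
      · exact absurd ((AddSubgroup.eq_of_le_of_card_ge (fixS_mono hP₀P) (by rw [hl, zero_add, mul_one])).ge hv₀) hvt
      · rw [hl, mul_comm]
        exact Nat.mul_le_mul_left _ (by omega)
    have hP₀off : IsOff V p P₀ := ⟨hP.1.mono hP₀P, hP.2.trans
      ((Nat.mul_le_mul_right _ hcard).trans (by rw [mul_comm 2, mul_assoc]; exact Nat.mul_le_mul_left _ hdouble))⟩
    have hlt : Nat.card ↥P₀ ≤ k := Nat.lt_succ_iff.1 (lt_of_lt_of_le (lt_of_le_of_ne (Subgroup.card_le_of_le hP₀P)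
      fun h => htP₀ ((Subgroup.eq_of_le_of_card_ge hP₀P h.ge).ge htP)) hk)
    exact hsplit.trans (sup_le (le_rsup ⟨hA, hAP.trans hPT⟩)
      (ih P₀ hlt hP₀off (hP₀P.trans hPE) (hP₀P.trans hPT)))

end CfsgLib.CFun.MinParab.Baumann
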